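import Mathlib
import Groth.Agent.FlatLib.Openness
import Groth.Agent.FlatLib.BaseChange
import Groth.Agent.FlatCrit.Basic
import Groth.Agent.RichLib.FlatFamily

/-!
# Fibrewise flatness: base change models, and tests on families of local algebras
-/

set_option autoImplicit false
universe u

open TensorProduct IsLocalRing FlatLib

attribute [local instance] Algebra.TensorProduct.rightAlgebra

namespace DvrFlatLib

section Criterion

variable {R S M Mq : Type u} [CommRing R] [CommRing S] [Algebra R S] [AddCommGroup M] [Module R M]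
  [Module S M] [IsScalarTower R S M] [AddCommGroup Mq] [Module R Mq] [Module S Mq]
  [IsScalarTower R S Mq] (T : Submonoid S) (ψ : M →ₗ[S] Mq) [IsLocalizedModule T ψ]
  (R' : Type u) [CommRing R'] [Algebra R R']

/-- A base change of a module to an algebra is flat over it as soon as kernels between modules over
the algebra vanish. -/
theorem flat_tensor_of_injective
    (h : ∀ (P : Type u) [AddCommGroup P] [Module R P] [Module R' P] [IsScalarTower R R' P]
      (N : Submodule R' P), Function.Injective ((N.subtype.restrictScalars R).lTensor Mq)) :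
    Module.Flat R' (R' ⊗[R] Mq) := by
  refine Module.Flat.iff_lTensor_injectiveₛ.mpr fun P _ _ N ↦ ?_
  letI : AddCommGroup P := Module.addCommMonoidToAddCommGroup R'
  letI := Module.compHom P (algebraMap R R')
  have : IsScalarTower R R' P := IsScalarTower.of_algebraMap_smul fun _ _ ↦ rfl
  let ι := TensorProduct.mk R R' Mq 1
  have hι : IsBaseChange R' ι := TensorProduct.isBaseChange R Mq R'
  intro a b hab
  obtain ⟨a, rfl⟩ := (kappa_bijective ι N hι).2 a
  obtain ⟨b, rfl⟩ := (kappa_bijective ι N hι).2 b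
  rw [← kappa_lTensor, ← kappa_lTensor] at hab
  rw [h P N ((kappa_bijective ι P hι).1 hab)]

include T ψ in
/-- The base change of a localization is flat if kernel elements are killed by the monoid. -/
theorem flat_tensor_localized
    (h : ∀ (P : Type u) [AddCommGroup P] [Module R P] [Module R' P] [IsScalarTower R R' P]
      (N : Submodule R' P) (x : M ⊗[R] N), (N.subtype.restrictScalars R).lTensor M x = 0 →
      ∃ t ∈ T, t • x = 0) :
    Module.Flat R' (R' ⊗[R] Mq) :=
  flat_tensor_of_injective R' fun P _ _ _ _ N ↦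
    (injective_lTensor_localized_iff T ψ _).mpr (h P N)

end Criterion

section Quotient

variable {A B M A₁ B₁ M₁ : Type u} [CommRing A] [CommRing B] [Algebra A B] [AddCommGroup M]
  [Module B M] [Module A M] [IsScalarTower A B M] [CommRing A₁] [CommRing B₁] [Algebra A A₁]
  [Algebra A₁ B₁] [AddCommGroup M₁] [Module B₁ M₁] [Module A₁ M₁] [IsScalarTower A₁ B₁ M₁]
  [Module A M₁] [IsScalarTower A A₁ M₁]

/-- Flatness on a quotient model gives flatness of the base change of the localization. -/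
theorem flat_tensor_of_mem_flatLocus (π : B →+* B₁) (hπ : Function.Surjective π)
    (ι : M →ₗ[A] M₁) (hι : IsBaseChange A₁ ι) (hιπ : ∀ (b : B) (m : M), ι (b • m) = π b • ι m)
    (p : PrimeSpectrum B) (p₁ : PrimeSpectrum B₁) (hp : PrimeSpectrum.comap π p₁ = p)
    (h : p₁ ∈ flatLocus A₁ B₁ M₁) :
    Module.Flat A₁ (A₁ ⊗[A] LocalizedModule p.asIdeal.primeCompl M) := by
  refine flat_tensor_localized p.asIdeal.primeCompl (LocalizedModule.mkLinearMap _ M) A₁
    fun P _ _ _ _ N x hx ↦ ?_
  have hx' : N.subtype.lTensor M₁ (kappa ι N x) = 0 :=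
    (kappa_lTensor ι N N.subtype x).symm.trans ((congrArg (kappa ι P) hx).trans (map_zero _))
  obtain ⟨t₁, ht₁, htx⟩ := (flat_localized_iff p₁.asIdeal.primeCompl
    (LocalizedModule.mkLinearMap _ M₁)).mp h P N _ hx'
  obtain ⟨t, rfl⟩ := hπ t₁
  refine ⟨t, fun ht ↦ ht₁ ?_, (kappa_bijective ι N hι).1 ?_⟩
  · rw [← hp] at ht; exact ht
  · rw [kappa_smul ι N π hιπ, htx, map_zero]

end Quotient

section Models

variable (A : Type u) {B : Type u} [CommRing A] [CommRing B] [Algebra A B] (M : Type u)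
  [AddCommGroup M] [Module B M] [Module A M] [IsScalarTower A B M]
  (A' : Type u) [CommRing A'] [Algebra A A']

/-- The base change of an algebra. -/
abbrev BCA (A A' B : Type u) [CommRing A] [CommRing A'] [Algebra A A'] [CommRing B] [Algebra A B] :
    Type u := A' ⊗[A] B

/-- The base change of a module. -/
abbrev BCM (A B M A' : Type u) [CommRing A] [CommRing B] [Algebra A B] [AddCommGroup M] [Module B M]
    [CommRing A'] [Algebra A A'] : Type u := BCA A A' B ⊗[B] M

/-- The structure map of the base change. -/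
noncomputable def bcι (A B M A' : Type u) [CommRing A] [CommRing B] [Algebra A B] [AddCommGroup M]
    [Module B M] [CommRing A'] [Algebra A A'] : M →ₗ[B] BCM A B M A' :=
  TensorProduct.mk B (BCA A A' B) M 1

theorem isBaseChange_bcι (A B M A' : Type u) [CommRing A] [CommRing B] [Algebra A B] [AddCommGroup M]
    [Module B M] [CommRing A'] [Algebra A A'] : IsBaseChange (BCA A A' B) (bcι A B M A') :=
  TensorProduct.isBaseChange B M _

/-- All points over `p` and the closed point are in the flat locus of the base change. -/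
def FlatFibre [IsLocalRing A'] (p : Ideal B) : Prop :=
  ∀ Q : PrimeSpectrum (BCA A A' B), Q.asIdeal.comap (algebraMap B (BCA A A' B)) = p →
    Q.asIdeal.comap (algebraMap A' (BCA A A' B)) = maximalIdeal A' →
    Q ∈ flatLocus A' (BCA A A' B) (BCM A B M A')

/-- Functoriality of the base change in the coefficient algebra. -/
noncomputable def bcMap {A A₁ A₂ : Type u} (B : Type u) [CommRing A] [CommRing A₁] [CommRing A₂]
    [Algebra A A₁] [Algebra A A₂] [CommRing B] [Algebra A B] (φ : A₁ →ₐ[A] A₂) :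
    BCA A A₁ B →ₐ[A] BCA A A₂ B := Algebra.TensorProduct.map φ (AlgHom.id A B)

theorem bcMap_right {A A₁ A₂ B : Type u} [CommRing A] [CommRing A₁] [CommRing A₂]
    [Algebra A A₁] [Algebra A A₂] [CommRing B] [Algebra A B] (φ : A₁ →ₐ[A] A₂) (b : B) :
    bcMap B φ (algebraMap B (BCA A A₁ B) b) = algebraMap B (BCA A A₂ B) b := by
  show bcMap B φ ((1 : A₁) ⊗ₜ b) = (1 : A₂) ⊗ₜ b
  simp [bcMap]

theorem bcMap_left {A A₁ A₂ B : Type u} [CommRing A] [CommRing A₁] [CommRing A₂]
    [Algebra A A₁] [Algebra A A₂] [CommRing B] [Algebra A B] (φ : A₁ →ₐ[A] A₂) (a : A₁) :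
    bcMap B φ (algebraMap A₁ (BCA A A₁ B) a) = algebraMap A₂ (BCA A A₂ B) (φ a) := by
  show bcMap B φ (a ⊗ₜ (1 : B)) = φ a ⊗ₜ (1 : B)
  simp [bcMap]

variable {A M A'}

theorem isBaseChange_restrict {B' M' : Type u} [CommRing B'] [Algebra A B'] [Algebra B B'] [Algebra A' B']
    [IsScalarTower A A' B'] [IsScalarTower A B B'] [Algebra.IsPushout A A' B B'] [AddCommGroup M']
    [Module B' M'] [Module B M'] [IsScalarTower B B' M'] [Module A' M'] [IsScalarTower A' B' M']
    [Module A M'] [IsScalarTower A A' M'] [IsScalarTower A B M'] (ι : M →ₗ[B] M') (hι : IsBaseChange B' ι) :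
    IsBaseChange A' (ι.restrictScalars A) := by
  let e := (Algebra.IsPushout.cancelBaseChange A A' B B' M).symm ≪≫ₗ hι.equiv.restrictScalars A'
  refine IsBaseChange.of_equiv e fun m ↦ ?_
  show hι.equiv ((Algebra.IsPushout.cancelBaseChange A A' B B' M).symm ((1 : A') ⊗ₜ m)) = ι m
  simp [IsBaseChange.equiv_tmul]

/-- Flatness passes along maps of base change models. -/
theorem mem_flatLocus_of_map {A' A'' B' B'' M' M'' : Type u} [CommRing A'] [CommRing A''] [CommRing B']
    [CommRing B''] [Algebra A A'] [Algebra A A''] [Algebra A' A''] [IsScalarTower A A' A'']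
    [Algebra B B'] [Algebra A' B'] [Algebra B B''] [Algebra A'' B''] [AddCommGroup M'] [Module B' M']
    [Module B M'] [IsScalarTower B B' M'] [Module A' M'] [IsScalarTower A' B' M'] [Module A M']
    [IsScalarTower A A' M'] [IsScalarTower A B M'] [AddCommGroup M''] [Module B'' M''] [Module B M'']
    [IsScalarTower B B'' M''] [Module A'' M''] [IsScalarTower A'' B'' M''] [Module A M'']
    [IsScalarTower A A'' M''] [IsScalarTower A B M'']
    (ι' : M →ₗ[B] M') (hι'B : IsBaseChange B' ι') (hι'A : IsBaseChange A' (ι'.restrictScalars A))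
    (ι'' : M →ₗ[B] M'') (hι''A : IsBaseChange A'' (ι''.restrictScalars A))
    (φ : B' →+* B'') (hφA : ∀ a, φ (algebraMap A' B' a) = algebraMap A'' B'' (algebraMap A' A'' a))
    (hφB : ∀ b, φ (algebraMap B B' b) = algebraMap B B'' b) (Q : PrimeSpectrum B'')
    (h : PrimeSpectrum.comap φ Q ∈ flatLocus A' B' M') : Q ∈ flatLocus A'' B'' M'' := by
  letI : Module B' M'' := Module.compHom M'' φ
  have : IsScalarTower B B' M'' := IsScalarTower.of_algebraMap_smul fun b m ↦ by
    show φ (algebraMap B B' b) • m = b • m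
    rw [hφB, algebraMap_smul]
  letI : Module A' M'' := Module.compHom M'' (algebraMap A' A'')
  have : IsScalarTower A' A'' M'' := IsScalarTower.of_algebraMap_smul fun _ _ ↦ rfl
  have : IsScalarTower A' B' M'' := IsScalarTower.of_algebraMap_smul fun a m ↦ by
    show φ (algebraMap A' B' a) • m = algebraMap A' A'' a • m
    rw [hφA, algebraMap_smul]
  have : IsScalarTower A A' M'' := IsScalarTower.of_algebraMap_smul fun a m ↦ by
    show algebraMap A' A'' (algebraMap A A' a) • m = a • m
    rw [← IsScalarTower.algebraMap_apply, algebraMap_smul]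
  let g : M' →ₗ[B'] M'' := hι'B.lift ι''
  have hg : ((g.restrictScalars A') : M' →ₗ[A] M'') ∘ₗ ι'.restrictScalars A = ι''.restrictScalars A :=
    LinearMap.ext fun m ↦ hι'B.lift_eq ι'' m
  have hbc : IsBaseChange A'' (g.restrictScalars A') := IsBaseChange.of_comp hι'A (hg.symm ▸ hι''A)
  exact flat_localized_baseChange (PrimeSpectrum.comap φ Q).asIdeal.primeCompl
    (LocalizedModule.mkLinearMap _ M') Q.asIdeal.primeCompl (LocalizedModule.mkLinearMap _ M'') φ
    (fun t ht hmem ↦ ht hmem) (g.restrictScalars A') hbc (fun s m ↦ g.map_smul s m) h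

/-- The fibre condition holds in every model. -/
theorem FlatFibre.mem {A' : Type u} [CommRing A'] [IsLocalRing A'] [Algebra A A'] {p : Ideal B}
    (h : FlatFibre A M A' p) {B' M' : Type u} [CommRing B'] [Algebra A B'] [Algebra B B'] [Algebra A' B']
    [IsScalarTower A A' B'] [IsScalarTower A B B'] [Algebra.IsPushout A A' B B'] [AddCommGroup M']
    [Module B' M'] [Module B M'] [IsScalarTower B B' M'] [Module A' M'] [IsScalarTower A' B' M']
    [Module A M'] [IsScalarTower A A' M'] [IsScalarTower A B M'] (ι : M →ₗ[B] M') (hι : IsBaseChange B' ι)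
    (Q : PrimeSpectrum B') (hQp : Q.asIdeal.comap (algebraMap B B') = p)
    (hQm : Q.asIdeal.comap (algebraMap A' B') = maximalIdeal A') : Q ∈ flatLocus A' B' M' := by
  let φ : BCA A A' B →+* B' := (Algebra.IsPushout.equiv A A' B B').toRingEquiv.toRingHom
  have hA : ∀ a, φ (algebraMap A' (BCA A A' B) a) = algebraMap A' B' a := fun a ↦ by
    show Algebra.IsPushout.equiv A A' B B' (algebraMap A' (BCA A A' B) a) = _
    exact (Algebra.IsPushout.equiv A A' B B').commutes a
  have hB : ∀ b, φ (algebraMap B (BCA A A' B) b) = algebraMap B B' b := fun b ↦ by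
    show Algebra.IsPushout.equiv A A' B B' ((1 : A') ⊗ₜ b) = _
    rw [Algebra.IsPushout.equiv_tmul, map_one, one_mul]
  refine mem_flatLocus_of_map (bcι A B M A') (isBaseChange_bcι A B M A')
    (isBaseChange_restrict (A := A) (A' := A') _ (isBaseChange_bcι A B M A')) ι (isBaseChange_restrict (A := A) (A' := A') ι hι) φ hA hB Q ?_
  refine h _ ?_ ?_
  · rw [← hQp]; ext b; exact iff_of_eq (congrArg (· ∈ Q.asIdeal) (hB b))
  · rw [← hQm]; ext a; exact iff_of_eq (congrArg (· ∈ Q.asIdeal) (hA a))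

/-- The fibre condition may be tested in any model. -/
theorem FlatFibre.of_model {A' : Type u} [CommRing A'] [IsLocalRing A'] [Algebra A A'] {p : Ideal B}
    {B' M' : Type u} [CommRing B'] [Algebra A B'] [Algebra B B'] [Algebra A' B']
    [IsScalarTower A A' B'] [IsScalarTower A B B'] [Algebra.IsPushout A A' B B'] [AddCommGroup M']
    [Module B' M'] [Module B M'] [IsScalarTower B B' M'] [Module A' M'] [IsScalarTower A' B' M']
    [Module A M'] [IsScalarTower A A' M'] [IsScalarTower A B M'] (ι : M →ₗ[B] M') (hι : IsBaseChange B' ι)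
    (h : ∀ Q : PrimeSpectrum B', Q.asIdeal.comap (algebraMap B B') = p →
      Q.asIdeal.comap (algebraMap A' B') = maximalIdeal A' → Q ∈ flatLocus A' B' M') :
    FlatFibre A M A' p := by
  intro Q hQp hQm
  let φ : B' →+* BCA A A' B := (Algebra.IsPushout.equiv A A' B B').symm.toRingEquiv.toRingHom
  have hA : ∀ a, φ (algebraMap A' B' a) = algebraMap A' (BCA A A' B) a := fun a ↦
    (Algebra.IsPushout.equiv A A' B B').symm.commutes a
  have hB : ∀ b, φ (algebraMap B B' b) = algebraMap B (BCA A A' B) b := fun b ↦ by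
    show (Algebra.IsPushout.equiv A A' B B').symm (algebraMap B B' b) = (1 : A') ⊗ₜ b
    rw [AlgEquiv.symm_apply_eq, Algebra.IsPushout.equiv_tmul, map_one, one_mul]
  refine mem_flatLocus_of_map ι hι (isBaseChange_restrict (A := A) (A' := A') ι hι) (bcι A B M A')
    (isBaseChange_restrict (A' := A') _ (isBaseChange_bcι A B M A')) φ hA hB Q ?_
  refine h _ ?_ ?_
  · rw [← hQp]; ext b; exact iff_of_eq (congrArg (· ∈ Q.asIdeal) (hB b))
  · rw [← hQm]; ext a; exact iff_of_eq (congrArg (· ∈ Q.asIdeal) (hA a))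

end Models

section Family

variable {A B M : Type u} [CommRing A] [IsLocalRing A] [IsNoetherianRing A] [CommRing B] [Algebra A B]
  [IsNoetherianRing B] [AddCommGroup M] [Module B M] [Module A M] [IsScalarTower A B M] [Module.Finite B M]

omit [IsLocalRing A] [IsNoetherianRing A] [IsNoetherianRing B] [Module.Finite B M] in
theorem surjective_algebraMap_quotient (J : Ideal A) :
    Function.Surjective (algebraMap B (BCA A (A ⧸ J) B)) := fun z ↦ by
  induction z using TensorProduct.induction_on with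
  | zero => exact ⟨0, map_zero _⟩
  | add x y hx hy =>
    obtain ⟨a, rfl⟩ := hx
    obtain ⟨b, rfl⟩ := hy
    exact ⟨a + b, map_add _ _ _⟩
  | tmul a b =>
    obtain ⟨a, rfl⟩ := Ideal.Quotient.mk_surjective a
    refine ⟨a • b, ?_⟩
    show (1 : A ⧸ J) ⊗ₜ[A] (a • b) = _
    rw [tmul_smul, ← Ideal.Quotient.algebraMap_eq, Algebra.algebraMap_eq_smul_one, smul_tmul']

omit [IsLocalRing A] [IsNoetherianRing A] [Module.Finite B M] in
theorem isNoetherianRing_quotient (J : Ideal A) : IsNoetherianRing (BCA A (A ⧸ J) B) :=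
  isNoetherianRing_of_surjective B _ _ (surjective_algebraMap_quotient J)

/-- One member of the family, over the quotient by an ideal killed in it. -/
theorem relation_member {A' : Type u} [CommRing A'] [IsLocalRing A'] [Algebra A A'] [IsLocalHom (algebraMap A A')]
    {p : PrimeSpectrum B} (h : FlatFibre A M A' p.asIdeal) (k : ℕ) {J : Ideal A} [IsLocalRing (A ⧸ J)]
    (hJ : J ≤ Ideal.comap (algebraMap A A') (maximalIdeal A' ^ k)) (hk : k ≠ 0)
    (p₁ : PrimeSpectrum (BCA A (A ⧸ J) B)) (hp₁ : p₁.asIdeal.comap (algebraMap B (BCA A (A ⧸ J) B)) = p.asIdeal)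
    {σ : Type u} (l : σ → LocalizedModule p₁.asIdeal.primeCompl (BCM A B M (A ⧸ J)))
    (hl : Function.Injective ((Finsupp.linearCombination (A ⧸ J) l).lTensor ((A ⧸ J) ⧸ maximalIdeal (A ⧸ J))))
    (v : σ →₀ A ⧸ J) (hv : Finsupp.linearCombination (A ⧸ J) l v = 0) (j : σ) :
    Ideal.quotientMap (maximalIdeal A' ^ k) (algebraMap A A') hJ (v j) = 0 := by
  let A₁ := A ⧸ J
  let A₂ := A' ⧸ maximalIdeal A' ^ k
  have : IsNoetherianRing (BCA A (A ⧸ J) B) := isNoetherianRing_quotient J
  have : Nontrivial A₂ := Ideal.Quotient.nontrivial_iff.mpr fun e ↦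
    (maximalIdeal.isMaximal A').ne_top (top_le_iff.mp (e.ge.trans (Ideal.pow_le_self hk)))
  have : IsLocalRing A₂ := IsLocalRing.of_surjective' _ Ideal.Quotient.mk_surjective
  letI : Algebra A₁ A₂ := (Ideal.quotientMap (maximalIdeal A' ^ k) (algebraMap A A') hJ).toAlgebra
  have : IsScalarTower A A₁ A₂ := IsScalarTower.of_algebraMap_eq fun _ ↦ rfl
  have : IsLocalHom (algebraMap A₁ A₂) := ⟨fun a ha ↦ by
    obtain ⟨a, rfl⟩ := Ideal.Quotient.mk_surjective a
    have ha' : IsUnit (Ideal.Quotient.mk (maximalIdeal A' ^ k) (algebraMap A A' a)) := ha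
    have : IsLocalHom (Ideal.Quotient.mk (maximalIdeal A' ^ k)) :=
      Function.Surjective.isLocalHom _ Ideal.Quotient.mk_surjective
    exact ((isUnit_of_map_unit (algebraMap A A') a (isUnit_of_map_unit _ _ ha'))).map _⟩
  let B₁ := BCA A A₁ B
  let B₂ := BCA A A₂ B
  let θ : B₁ →ₐ[A] B₂ := bcMap B (IsScalarTower.toAlgHom A A₁ A₂)
  letI : Algebra B₁ B₂ := θ.toRingHom.toAlgebra
  have hθB : ∀ b, θ (algebraMap B B₁ b) = algebraMap B B₂ b := bcMap_right _
  have hθA : ∀ a, θ (algebraMap A₁ B₁ a) = algebraMap A₂ B₂ (algebraMap A₁ A₂ a) := bcMap_left _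
  have : IsScalarTower A₁ A₂ B₂ := inferInstance
  have : IsScalarTower A₁ B₁ B₂ := IsScalarTower.of_algebraMap_eq fun a ↦
    (IsScalarTower.algebraMap_apply A₁ A₂ B₂ a).trans (hθA a).symm
  have : IsScalarTower B B₁ B₂ := IsScalarTower.of_algebraMap_eq fun b ↦ (hθB b).symm
  have : IsScalarTower A A₁ B₂ := IsScalarTower.of_algebraMap_eq fun a ↦ by
    show algebraMap A B₂ a = algebraMap A₂ B₂ (algebraMap A₁ A₂ (algebraMap A A₁ a))
    rw [← IsScalarTower.algebraMap_apply A A₁ A₂, ← IsScalarTower.algebraMap_apply A A₂ B₂]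
  have : IsScalarTower A B₁ B₂ := IsScalarTower.of_algebraMap_eq fun a ↦ (θ.commutes a).symm
  have : Algebra.IsPushout A₁ A₂ B₁ B₂ :=
    (Algebra.IsPushout.comp_iff A A₁ B B₁).mp inferInstance
  let M₁ := BCM A B M A₁
  let M₂ := BCM A B M A₂
  have : IsScalarTower B₁ B₂ M₂ := inferInstance
  have : IsScalarTower B B₁ M₂ := IsScalarTower.of_algebraMap_smul fun b m ↦ by
    rw [← algebraMap_smul B₂ (algebraMap B B₁ b) m, ← IsScalarTower.algebraMap_apply, algebraMap_smul]
  let ι : M₁ →ₗ[B₁] M₂ := (isBaseChange_bcι A B M A₁).lift (bcι A B M A₂)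
  have hι : IsBaseChange B₂ ι := IsBaseChange.of_comp (isBaseChange_bcι A B M A₁) (by
    have : (ι : M₁ →ₗ[B] M₂) ∘ₗ bcι A B M A₁ = bcι A B M A₂ :=
      LinearMap.ext fun m ↦ (isBaseChange_bcι A B M A₁).lift_eq (bcι A B M A₂) m
    rw [this]
    exact isBaseChange_bcι A B M A₂)
  refine RichLib.FlatFamily.relation_mem p₁.asIdeal M₁ ι hι (fun Q hQ hQm ↦ ?_) l hl v hv j
  let ψ : BCA A A' B →ₐ[A] B₂ := bcMap B (IsScalarTower.toAlgHom A A' A₂)
  have hψB : ∀ b, ψ (algebraMap B (BCA A A' B) b) = algebraMap B B₂ b := bcMap_right _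
  have hψA : ∀ a, ψ (algebraMap A' (BCA A A' B) a) = algebraMap A₂ B₂ (algebraMap A' A₂ a) := bcMap_left _
  refine mem_flatLocus_of_map (bcι A B M A') (isBaseChange_bcι A B M A')
    (isBaseChange_restrict (A := A) (A' := A') _ (isBaseChange_bcι A B M A')) (bcι A B M A₂)
    (isBaseChange_restrict (A := A) (A' := A₂) _ (isBaseChange_bcι A B M A₂)) ψ.toRingHom hψA hψB Q (h _ ?_ ?_)
  · rw [← hp₁, ← hQ]
    ext b
    simp only [Ideal.mem_comap, PrimeSpectrum.comap_asIdeal]
    show ψ (algebraMap B _ b) ∈ Q.asIdeal ↔ θ (algebraMap B B₁ b) ∈ Q.asIdeal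
    rw [hψB, hθB]
  · refine (IsLocalRing.eq_maximalIdeal ?_)
    have hmap : (PrimeSpectrum.comap ψ.toRingHom Q).asIdeal.comap (algebraMap A' (BCA A A' B)) =
        (maximalIdeal A₂).comap (algebraMap A' A₂) := by
      rw [← hQm]
      ext a
      simp only [Ideal.mem_comap, PrimeSpectrum.comap_asIdeal]
      show ψ (algebraMap A' _ a) ∈ Q.asIdeal ↔ _
      rw [hψA]
    rw [hmap]
    exact Ideal.comap_isMaximal_of_surjective _ Ideal.Quotient.mk_surjective

omit [IsNoetherianRing A] [IsNoetherianRing B] [Module.Finite B M] in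
/-- A point of a quotient of the base change over `p`. -/
theorem exists_point_quotient {J : Ideal A} {p : PrimeSpectrum B}
    (hJ : J ≤ p.asIdeal.comap (algebraMap A B)) :
    ∃ p₁ : PrimeSpectrum (BCA A (A ⧸ J) B),
      p₁.asIdeal.comap (algebraMap B (BCA A (A ⧸ J) B)) = p.asIdeal := by
  let α : (A ⧸ J) →ₐ[A] B ⧸ p.asIdeal := Ideal.Quotient.liftₐ J (Algebra.ofId A _) fun a ha ↦ by
    show algebraMap A (B ⧸ p.asIdeal) a = 0
    exact Ideal.Quotient.eq_zero_iff_mem.mpr (hJ ha)
  let ψ : BCA A (A ⧸ J) B →ₐ[A] B ⧸ p.asIdeal :=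
    Algebra.TensorProduct.lift α (Ideal.Quotient.mkₐ A p.asIdeal) fun _ _ ↦ Commute.all _ _
  refine ⟨⟨RingHom.ker ψ, RingHom.ker_isPrime ψ⟩, ?_⟩
  ext b
  show ψ ((1 : A ⧸ J) ⊗ₜ b) = 0 ↔ _
  simp [ψ, Ideal.Quotient.eq_zero_iff_mem]

theorem mem_flatLocus_of_flat_quotient_pow {p : PrimeSpectrum B}
    (hp : p.asIdeal.comap (algebraMap A B) = maximalIdeal A)
    (h : ∀ N : ℕ, 1 ≤ N → ∃ J : Ideal A, J ≤ maximalIdeal A ^ N ∧
      Module.Flat (A ⧸ J) ((A ⧸ J) ⊗[A] LocalizedModule p.asIdeal.primeCompl M)) :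
    p ∈ flatLocus A B M := by
  let Bp := Localization.AtPrime p.asIdeal
  let Mp := LocalizedModule p.asIdeal.primeCompl M
  have : IsNoetherianRing Bp := IsLocalization.isNoetherianRing p.asIdeal.primeCompl Bp inferInstance
  have : Module.Finite Bp Mp := Module.Finite.of_isLocalizedModule p.asIdeal.primeCompl
    (LocalizedModule.mkLinearMap _ M)
  have : IsScalarTower A Bp Mp := IsScalarTower.of_algebraMap_smul fun r x ↦ by
    rw [IsScalarTower.algebraMap_apply A B Bp, algebraMap_smul, algebraMap_smul]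
  show Module.Flat A Mp
  refine FlatCrit.flat_of_flat_quotient_pow (S := Bp) (maximalIdeal A) ?_ fun N ↦ ?_
  · rw [IsLocalRing.jacobson_eq_maximalIdeal _ bot_ne_top, Ideal.map_le_iff_le_comap, ← hp]
    intro a ha
    rw [Ideal.mem_comap, IsScalarTower.algebraMap_apply A B Bp]
    exact (IsLocalization.AtPrime.to_map_mem_maximal_iff Bp p.asIdeal _).mpr ha
  rcases Nat.eq_zero_or_pos N with rfl | hN
  · have : Subsingleton (A ⧸ maximalIdeal A ^ 0) := Ideal.Quotient.subsingleton_iff.mpr (by simp)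
    infer_instance
  obtain ⟨J, hJN, hflat⟩ := h N hN
  let A₁ := A ⧸ J
  let A₃ := A ⧸ maximalIdeal A ^ N
  letI : Algebra A₁ A₃ := (Ideal.Quotient.factor hJN).toAlgebra
  have : IsScalarTower A A₁ A₃ := IsScalarTower.of_algebraMap_eq fun _ ↦ rfl
  exact Module.Flat.of_linearEquiv (M := A₃ ⊗[A₁] (A₁ ⊗[A] Mp))
    (AlgebraTensorModule.cancelBaseChange A A₁ A₃ A₃ Mp).symm

/-- Flatness tested on a family of local algebras inducing a fine enough topology. -/
theorem mem_flatLocus_of_family {ι : Type u} (A' : ι → Type u) [∀ i, CommRing (A' i)]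
    [∀ i, IsLocalRing (A' i)] [∀ i, Algebra A (A' i)] [∀ i, IsLocalHom (algebraMap A (A' i))]
    (htop : ∀ N : ℕ, ∃ s : Finset (ι × ℕ),
      ⨅ q ∈ s, Ideal.comap (algebraMap A (A' q.1)) (maximalIdeal (A' q.1) ^ q.2) ≤ maximalIdeal A ^ N)
    {p : PrimeSpectrum B} (hp : p.asIdeal.comap (algebraMap A B) = maximalIdeal A)
    (hflat : ∀ i, FlatFibre A M (A' i) p.asIdeal) : p ∈ flatLocus A B M := by
  classical
  refine mem_flatLocus_of_flat_quotient_pow hp fun N hN ↦ ?_
  obtain ⟨s, hs⟩ := htop N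
  let J : Ideal A := ⨅ q ∈ s, Ideal.comap (algebraMap A (A' q.1)) (maximalIdeal (A' q.1) ^ q.2)
  refine ⟨J, hs, ?_⟩
  have hJm : J ≤ maximalIdeal A := hs.trans (Ideal.pow_le_self (by omega))
  have : Nontrivial (A ⧸ J) := Ideal.Quotient.nontrivial_iff.mpr fun e ↦
    (maximalIdeal.isMaximal A).ne_top (top_le_iff.mp (e.ge.trans hJm))
  have : IsLocalRing (A ⧸ J) := IsLocalRing.of_surjective' _ Ideal.Quotient.mk_surjective
  have hmax : maximalIdeal (A ⧸ J) = (maximalIdeal A).map (Ideal.Quotient.mk J) :=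
    (IsLocalRing.eq_maximalIdeal (Ideal.IsMaximal.map_of_surjective_of_ker_le Ideal.Quotient.mk_surjective
      (by rwa [Ideal.mk_ker]))).symm
  have hnil : IsNilpotent (maximalIdeal (A ⧸ J)) := by
    refine ⟨s.sup Prod.snd, ?_⟩
    rw [hmax, ← Ideal.map_pow, Submodule.zero_eq_bot, Ideal.map_eq_bot_iff_le_ker, Ideal.mk_ker]
    refine le_iInf₂ fun q hq ↦ (Ideal.pow_le_pow_right (Finset.le_sup hq)).trans ?_
    rw [← Ideal.map_le_iff_le_comap, Ideal.map_pow]
    exact Ideal.pow_right_mono (((IsLocalRing.local_hom_TFAE (algebraMap A (A' q.1))).out 0 2 rfl rfl).mp inferInstance) _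
  obtain ⟨p₁, hp₁⟩ := exists_point_quotient (J := J) (p := p) (hp.symm ▸ hJm)
  have : IsNoetherianRing (BCA A (A ⧸ J) B) := isNoetherianRing_quotient J
  have hsurj := surjective_algebraMap_quotient (B := B) J
  refine flat_tensor_of_mem_flatLocus (algebraMap B (BCA A (A ⧸ J) B)) hsurj
    ((bcι A B M (A ⧸ J)).restrictScalars A) (isBaseChange_restrict _ (isBaseChange_bcι A B M _))
    (fun b m ↦ by rw [LinearMap.restrictScalars_apply, map_smul, algebraMap_smul]; rfl)
    p p₁ (PrimeSpectrum.ext hp₁) ?_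
  refine RichLib.FlatFamily.mem_flatLocus_of_family hnil p₁ _ fun {σ} l hl v hv j ↦ ?_
  obtain ⟨a, ha⟩ := Ideal.Quotient.mk_surjective (v j)
  rw [← ha, Ideal.Quotient.eq_zero_iff_mem]
  refine Ideal.mem_iInf.mpr fun q ↦ Ideal.mem_iInf.mpr fun hq ↦ ?_
  by_cases hk : q.2 = 0
  · simp [hk]
  have h0 := relation_member (hflat q.1) q.2 (J := J) (iInf₂_le q hq) hk p₁ hp₁ l hl v hv j
  rw [← ha, Ideal.quotientMap_mk, Ideal.Quotient.eq_zero_iff_mem] at h0
  exact h0

end Family

end DvrFlatLib
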