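import Mathlib
import Groth.Agent.DvrFlatLib.Core
import Groth.Agent.DvrDom.Basic
import Groth.Agent.S17754
import Groth.Agent.S2574
import Groth.Agent.S0543
import Groth.Agent.AdicRingLib.RigClosed

/-!
# The valuative criterion of flatness (EGA IV 11.8.1)
-/

set_option autoImplicit false
universe u

open TensorProduct IsLocalRing FlatLib

attribute [local instance] Algebra.TensorProduct.rightAlgebra

namespace DvrFlatLib

/-- Flatness at all points over `p` and the closed point after base change to all local discrete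
valuation algebras. -/
def DvrHyp (A : Type u) {B : Type u} [CommRing A] [IsLocalRing A] [CommRing B] [Algebra A B]
    (M : Type u) [AddCommGroup M] [Module B M] [Module A M] [IsScalarTower A B M] (p : Ideal B) :
    Prop :=
  ∀ (A' : Type u) [CommRing A'] [IsDomain A'] [IsDiscreteValuationRing A'] [Algebra A A']
    [IsLocalHom (algebraMap A A')], FlatFibre A M A' p

section Trans

variable {A B M A₁ B₁ M₁ : Type u} [CommRing A] [CommRing B] [Algebra A B] [AddCommGroup M]
  [Module B M] [Module A M] [IsScalarTower A B M]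
  [CommRing A₁] [CommRing B₁] [Algebra A A₁] [Algebra A B₁] [Algebra B B₁] [Algebra A₁ B₁]
  [IsScalarTower A A₁ B₁] [IsScalarTower A B B₁] [Algebra.IsPushout A A₁ B B₁]
  [AddCommGroup M₁] [Module B₁ M₁] [Module B M₁] [IsScalarTower B B₁ M₁] [Module A₁ M₁]
  [IsScalarTower A₁ B₁ M₁]

/-- The fibre condition descends along a base change of the base ring. -/
theorem FlatFibre.trans {A' : Type u} [CommRing A'] [IsLocalRing A'] [Algebra A A'] [Algebra A₁ A']
    [IsScalarTower A A₁ A'] {p : Ideal B} (h : FlatFibre A M A' p) (ι : M →ₗ[B] M₁)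
    (hι : IsBaseChange B₁ ι) (p₁ : Ideal B₁) (hp₁ : p₁.comap (algebraMap B B₁) = p) :
    FlatFibre A₁ M₁ A' p₁ := by
  intro Q hQp hQm
  let B' := BCA A₁ A' B₁
  let M' := BCM A₁ B₁ M₁ A'
  letI : Algebra B B' := ((algebraMap B₁ B').comp (algebraMap B B₁)).toAlgebra
  have : IsScalarTower B B₁ B' := IsScalarTower.of_algebraMap_eq fun _ ↦ rfl
  have hA₁ : ∀ a : A₁, algebraMap A₁ B' a = algebraMap B₁ B' (algebraMap A₁ B₁ a) :=
    fun a ↦ IsScalarTower.algebraMap_apply A₁ B₁ B' a
  have : IsScalarTower A A₁ B' := IsScalarTower.of_algebraMap_eq fun a ↦ by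
    show algebraMap A B' a = algebraMap A' B' (algebraMap A₁ A' (algebraMap A A₁ a))
    rw [← IsScalarTower.algebraMap_apply A A₁ A', ← IsScalarTower.algebraMap_apply A A' B']
  have : IsScalarTower A B₁ B' := IsScalarTower.of_algebraMap_eq fun a ↦ by
    rw [IsScalarTower.algebraMap_apply A A₁ B₁, ← hA₁, ← IsScalarTower.algebraMap_apply]
  have : IsScalarTower A B B' := IsScalarTower.of_algebraMap_eq fun a ↦ by
    show algebraMap A B' a = algebraMap B₁ B' (algebraMap B B₁ (algebraMap A B a))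
    rw [← IsScalarTower.algebraMap_apply A B B₁, ← IsScalarTower.algebraMap_apply A B₁ B']
  have : Algebra.IsPushout A A' B B' :=
    (Algebra.IsPushout.comp_iff A A₁ B B₁).mpr inferInstance
  have : IsScalarTower B B' M' := inferInstance
  have : IsScalarTower B B₁ M' := IsScalarTower.of_algebraMap_smul fun b m ↦ by
    rw [← algebraMap_smul B' (algebraMap B B₁ b) m, ← IsScalarTower.algebraMap_apply, algebraMap_smul]
  have : IsScalarTower A A' M' := inferInstance
  have : IsScalarTower A B M' := IsScalarTower.of_algebraMap_smul fun a m ↦ by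
    rw [← algebraMap_smul B' (algebraMap A B a) m, ← IsScalarTower.algebraMap_apply,
      IsScalarTower.algebraMap_apply A A' B', algebraMap_smul, algebraMap_smul]
  let ι' : M →ₗ[B] M' := (bcι A₁ B₁ M₁ A').restrictScalars B ∘ₗ ι
  have hι' : IsBaseChange B' ι' := IsBaseChange.comp hι (isBaseChange_bcι A₁ B₁ M₁ A')
  refine h.mem ι' hι' Q ?_ hQm
  rw [← hp₁, ← hQp]
  rfl

theorem DvrHyp.trans [IsLocalRing A] [IsLocalRing A₁] [IsLocalHom (algebraMap A A₁)] {p : Ideal B}
    (h : DvrHyp A M p) (ι : M →ₗ[B] M₁)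
    (hι : IsBaseChange B₁ ι) (p₁ : Ideal B₁) (hp₁ : p₁.comap (algebraMap B B₁) = p) :
    DvrHyp A₁ M₁ p₁ := by
  intro A' _ _ _ _ _
  letI : Algebra A A' := ((algebraMap A₁ A').comp (algebraMap A A₁)).toAlgebra
  have : IsScalarTower A A₁ A' := IsScalarTower.of_algebraMap_eq fun _ ↦ rfl
  have : IsLocalHom (algebraMap A A') :=
    RingHom.isLocalHom_comp (algebraMap A₁ A') (algebraMap A A₁)
  exact FlatFibre.trans (h A') ι hι p₁ hp₁

end Trans

section Complete

variable {A B M : Type u} [CommRing A] [IsLocalRing A] [IsNoetherianRing A] [IsReduced A]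
  [CommRing B] [Algebra A B] [IsNoetherianRing B] [AddCommGroup M] [Module B M] [Module A M]
  [IsScalarTower A B M] [Module.Finite B M]

/-- The valuative criterion over a complete reduced base. -/
theorem mem_flatLocus_of_dvrHyp_complete [IsAdicComplete (maximalIdeal A) A] {p : PrimeSpectrum B}
    (hp : p.asIdeal.comap (algebraMap A B) = maximalIdeal A) (h : DvrHyp A M p.asIdeal) :
    p ∈ flatLocus A B M := by
  classical
  by_cases hF : IsField A
  · letI := hF.toField
    show Module.Flat A _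
    infer_instance
  let ι := ↥(minimalPrimes A)
  have hne : ∀ P : ι, ∃ a ∈ maximalIdeal A, a ∉ P.1 := fun P ↦ by
    by_contra hc
    push Not at hc
    have := P.2.1.1
    have hPm : P.1 = maximalIdeal A := le_antisymm (le_maximalIdeal this.ne_top) hc
    refine hF (IsLocalRing.isField_iff_maximalIdeal_eq.mpr (le_antisymm (fun a ha ↦ ?_) bot_le))
    have hn : a ∈ nilradical A := by
      rw [nilradical, ← Ideal.sInf_minimalPrimes, Submodule.mem_sInf]
      intro Q hQ
      have hle : Q ≤ P.1 := (le_maximalIdeal hQ.1.1.ne_top).trans hPm.ge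
      exact P.2.2 hQ.1 hle (hc a ha)
    rwa [nilradical_eq_zero] at hn
  have key : ∀ P : ι, ∃ (A' : Type u) (_ : CommRing A') (_ : IsDomain A')
      (_ : IsDiscreteValuationRing A') (_ : Algebra A A'),
      IsLocalHom (algebraMap A A') ∧ RingHom.ker (algebraMap A A') = P.1 := by
    intro P
    have := P.2.1.1
    let L := FractionRing (A ⧸ P.1)
    have hkerL : RingHom.ker (algebraMap A L) = P.1 := by
      ext a
      rw [RingHom.mem_ker, IsScalarTower.algebraMap_apply A (A ⧸ P.1) L,
        map_eq_zero_iff _ (IsFractionRing.injective (A ⧸ P.1) L), Ideal.Quotient.algebraMap_eq,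
        Ideal.Quotient.eq_zero_iff_mem]
    have hs : Subfield.closure (Set.range (algebraMap A L) ∪ ((∅ : Finset L) : Set L)) = ⊤ := by
      refine top_le_iff.mp fun x _ ↦ ?_
      obtain ⟨a, b, _, rfl⟩ := IsFractionRing.div_surjective (A ⧸ P.1) x
      obtain ⟨a, rfl⟩ := Ideal.Quotient.mk_surjective a
      obtain ⟨b, rfl⟩ := Ideal.Quotient.mk_surjective b
      exact div_mem (Subfield.subset_closure (Or.inl ⟨a, rfl⟩)) (Subfield.subset_closure (Or.inl ⟨b, rfl⟩))
    obtain ⟨R, hR, hmem, hlt⟩ := DvrDomLib.exists_dvr_dominating (L := L) (maximalIdeal A)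
      (hkerL.trans_le (le_maximalIdeal this.ne_top))
      (by
        obtain ⟨a, ha, haP⟩ := hne P
        exact ⟨a, ha, fun h0 ↦ haP (hkerL ▸ RingHom.mem_ker.mpr h0)⟩) ∅ hs
    refine ⟨R, inferInstance, inferInstance, hR,
      ((algebraMap A L).codRestrict R.toSubring hmem).toAlgebra, ⟨fun a ha ↦ ?_⟩, ?_⟩
    · by_contra hu
      have h1 : R.valuation (algebraMap A L a) < 1 := (hlt a).mpr hu
      have h2 := (R.valuation_eq_one_iff ⟨algebraMap A L a, hmem a⟩).mp ha
      exact h1.ne h2
    · refine Eq.trans ?_ hkerL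
      ext a
      exact ⟨fun h0 ↦ congrArg Subtype.val h0, fun h0 ↦ Subtype.ext h0⟩
  choose A' iC iD iV iA hloc hker using key
  have hι : Fintype ι := (minimalPrimes.finite_of_isNoetherianRing A).fintype
  have : ∀ P, IsLocalHom (algebraMap A (A' P)) := hloc
  refine mem_flatLocus_of_family A' (fun N ↦ ?_) hp (fun P ↦ h (A' P))
  let J : ℕ → Ideal A := fun k ↦ ⨅ P : ι, Ideal.comap (algebraMap A (A' P)) (maximalIdeal (A' P) ^ k)
  have hanti : Antitone J := fun k l hkl ↦ iInf_mono fun P ↦ Ideal.comap_mono (Ideal.pow_le_pow_right hkl)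
  have hinf : ⨅ k, J k = ⊥ := by
    refine (Submodule.eq_bot_iff _).mpr fun a ha ↦ ?_
    have hn : a ∈ nilradical A := by
      rw [nilradical, ← Ideal.sInf_minimalPrimes, Submodule.mem_sInf]
      intro Q hQ
      refine (congrArg (a ∈ ·) (hker ⟨Q, hQ⟩)).mp (RingHom.mem_ker.mpr ?_)
      have hK : algebraMap A (A' ⟨Q, hQ⟩) a ∈ ⨅ k : ℕ, maximalIdeal (A' ⟨Q, hQ⟩) ^ k := by
        rw [Submodule.mem_iInf]
        intro k
        exact Ideal.mem_iInf.mp (Ideal.mem_iInf.mp ha k) ⟨Q, hQ⟩
      rwa [Ideal.iInf_pow_eq_bot_of_isLocalRing _ (maximalIdeal.isMaximal _).ne_top] at hK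
    rwa [nilradical_eq_zero] at hn
  obtain ⟨k, hk⟩ := Groth.Agent.S17754.result A J hanti hinf N
  refine ⟨Finset.univ.image fun P : ι ↦ (P, k), le_trans (le_iInf fun P ↦ ?_) hk⟩
  exact iInf₂_le (f := fun (q : ι × ℕ) (_ : q ∈ Finset.univ.image fun P : ι ↦ (P, k)) ↦
    Ideal.comap (algebraMap A (A' q.1)) (maximalIdeal (A' q.1) ^ q.2)) (P, k)
    (Finset.mem_image_of_mem _ (Finset.mem_univ P))

end Complete

section Descent

variable {A B M B₁ : Type u} [CommRing A] [CommRing B] [Algebra A B] [AddCommGroup M] [Module B M]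
  [Module A M] [IsScalarTower A B M] [CommRing B₁] [Algebra B B₁] [Algebra A B₁] [IsScalarTower A B B₁]
  [Module.Flat B B₁]

/-- Flatness at a point descends along flat algebras. -/
theorem mem_flatLocus_of_flat_algebra (p : PrimeSpectrum B) (p₁ : PrimeSpectrum B₁)
    (hp : PrimeSpectrum.comap (algebraMap B B₁) p₁ = p)
    (h : p₁ ∈ flatLocus A B₁ (B₁ ⊗[B] M)) : p ∈ flatLocus A B M := by
  refine (flat_localized_iff p.asIdeal.primeCompl (LocalizedModule.mkLinearMap _ M)).mpr
    fun P _ _ N x hx ↦ ?_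
  by_contra hc
  push Not at hc
  let e := fun Q : Type u ↦ fun [AddCommGroup Q] [Module A Q] ↦
    (AlgebraTensorModule.assoc A B B₁ B₁ M Q)
  have hx' : N.subtype.lTensor (B₁ ⊗[B] M) ((e N).symm (1 ⊗ₜ x)) = 0 := by
    apply (e P).injective
    have hcomm : ∀ z : (B₁ ⊗[B] M) ⊗[A] N, e P (N.subtype.lTensor _ z) =
        (AlgebraTensorModule.lTensor B M N.subtype).lTensor B₁ (e N z) := fun z ↦ by
      induction z using TensorProduct.induction_on with
      | zero => simp
      | add a b ha hb => simp only [map_add, ha, hb]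
      | tmul w n =>
        induction w using TensorProduct.induction_on with
        | zero => simp
        | add a b ha hb => simp only [add_tmul, map_add, ha, hb]
        | tmul b m => simp [e]
    rw [hcomm, LinearEquiv.apply_symm_apply, map_zero, LinearMap.lTensor_tmul]
    exact (congrArg (fun y ↦ (1 : B₁) ⊗ₜ[B] y) hx).trans (tmul_zero _ _)
  obtain ⟨s, hs, hsx⟩ := (flat_localized_iff p₁.asIdeal.primeCompl
    (LocalizedModule.mkLinearMap _ (B₁ ⊗[B] M))).mp h P N _ hx'
  have hsx' : s ⊗ₜ[B] x = (0 : B₁ ⊗[B] (M ⊗[A] N)) := by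
    have h0 := congrArg (e N) hsx
    rw [map_smul, LinearEquiv.apply_symm_apply, map_zero, smul_tmul', smul_eq_mul, mul_one] at h0
    exact h0
  let I : Ideal B := LinearMap.ker (LinearMap.toSpanSingleton B _ x)
  let g : B ⧸ I →ₗ[B] M ⊗[A] N := Submodule.liftQ I _ le_rfl
  have hg : Function.Injective g := by
    rw [← LinearMap.ker_eq_bot]
    exact Submodule.ker_liftQ_eq_bot _ _ _ le_rfl
  have h1 : s ⊗ₜ[B] (Ideal.Quotient.mk I 1) = (0 : B₁ ⊗[B] (B ⧸ I)) := by
    refine Module.Flat.lTensor_preserves_injective_linearMap (M := B₁) g hg ?_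
    rw [map_zero, LinearMap.lTensor_tmul]
    show s ⊗ₜ[B] ((1 : B) • x) = _
    rwa [one_smul]
  have hI : I ≤ p.asIdeal := fun b hb ↦ by
    by_contra hbp
    exact hc b hbp (LinearMap.mem_ker.mp hb)
  have h2 := congrArg (TensorProduct.tensorQuotEquivQuotSMul B₁ I) h1
  rw [map_zero] at h2
  have h3 : s ∈ (I • ⊤ : Submodule B B₁) := by
    rwa [TensorProduct.tensorQuotEquivQuotSMul_tmul_mk, one_smul, Submodule.Quotient.mk_eq_zero] at h2
  refine hs ?_
  rw [Ideal.smul_top_eq_map, Submodule.restrictScalars_mem] at h3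
  exact Ideal.map_le_iff_le_comap.mpr (hI.trans (le_of_eq (congrArg PrimeSpectrum.asIdeal hp).symm)) h3

end Descent

section Minimal

variable {A A₁ : Type u} [CommRing A] [IsReduced A] [IsNoetherianRing A] [CommRing A₁] [Algebra A A₁]
  [IsNoetherianRing A₁] [Module.Flat A A₁]

/-- An associated prime of a flat algebra lies over a minimal prime of a reduced ring. -/
theorem comap_mem_minimalPrimes {q : Ideal A₁} (hq : q ∈ associatedPrimes A₁ A₁) :
    q.comap (algebraMap A A₁) ∈ minimalPrimes A := by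
  have := IsAssociatedPrime.isPrime hq
  obtain ⟨hq', y, hy⟩ := isAssociatedPrime_iff.mp hq
  have hy0 : y ≠ 0 := fun h0 ↦ hq'.ne_top (by rw [hy, h0]; simp)
  obtain ⟨P, hP, hPq⟩ := Ideal.exists_minimalPrimes_le (bot_le : (⊥ : Ideal A) ≤ q.comap (algebraMap A A₁))
  have hsub : (q.comap (algebraMap A A₁) : Set A) ⊆ ⋃ Q ∈ minimalPrimes A, (Q : Set A) := by
    intro a ha
    by_contra hc
    simp only [Set.mem_iUnion, not_exists] at hc
    have hreg : IsSMulRegular A a := by
      refine fun b c hbc ↦ sub_eq_zero.mp ?_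
      have hn : b - c ∈ nilradical A := by
        rw [nilradical, ← Ideal.sInf_minimalPrimes, Submodule.mem_sInf]
        intro Q hQ
        have h0 : a * (b - c) ∈ Q := by
          rw [mul_sub]
          simp only [smul_eq_mul] at hbc
          rw [hbc, sub_self]
          exact Q.zero_mem
        exact (hQ.1.1.mem_or_mem h0).resolve_left fun h1 ↦ hc Q hQ h1
      rwa [nilradical_eq_zero] at hn
    have hreg₁ : IsSMulRegular A₁ (algebraMap A A₁ a) := hreg.of_flat
    refine hy0 (hreg₁ ?_)
    show algebraMap A A₁ a • y = algebraMap A A₁ a • 0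
    have ha' : algebraMap A A₁ a ∈ q := ha
    rw [hy] at ha'
    rw [smul_zero]
    exact Submodule.mem_bot _ |>.mp (Submodule.mem_colon_singleton.mp ha')
  obtain ⟨Q, hQ, hle⟩ := (Ideal.subset_union_prime_finite (minimalPrimes.finite_of_isNoetherianRing A)
    (f := id) P P (fun Q hQ _ _ ↦ hQ.1.1)).mp hsub
  have hPQ : P ≤ Q := hPq.trans hle
  have : P = Q := le_antisymm hPQ (hQ.2 hP.1 hPQ)
  subst this
  rw [le_antisymm hle hPq]
  exact hP

end Minimal

section Generic

variable {A A₁ B₁ M M₁ : Type u} [CommRing A] [IsReduced A] [IsNoetherianRing A] [CommRing A₁]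
  [Algebra A A₁] [Module.Flat A A₁] [IsNoetherianRing A₁] [AddCommGroup M] [Module A M] [AddCommGroup M₁] [Module A M₁]
  [Module A₁ M₁] [IsScalarTower A A₁ M₁] [CommRing B₁] [Algebra A₁ B₁] [Module B₁ M₁]
  [IsScalarTower A₁ B₁ M₁]

/-- A base change from a reduced ring is flat at the associated primes. -/
theorem flat_localized_assoc (ι : M →ₗ[A] M₁) (hι : IsBaseChange A₁ ι) (T : Submonoid B₁)
    {L : Type u} [AddCommGroup L] [Module A₁ L] [Module B₁ L] [IsScalarTower A₁ B₁ L]
    (ψ : M₁ →ₗ[B₁] L) [IsLocalizedModule T ψ] {q : Ideal A₁} [q.IsPrime]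
    (hq : q ∈ associatedPrimes A₁ A₁) :
    Module.Flat (Localization.AtPrime q) (LocalizedModule q.primeCompl L) := by
  have hmin := comap_mem_minimalPrimes (A := A) hq
  let P := q.comap (algebraMap A A₁)
  let K := Localization.AtPrime P
  let K₁ := Localization.AtPrime q
  have : Ring.KrullDimLE 0 K := Ring.KrullDimLE.of_isLocalization P hmin K
  have hK : IsField K := IsLocalRing.isField_iff_maximalIdeal_eq.mpr <| le_antisymm (fun a ha ↦ by
    have hn : a ∈ nilradical K := mem_nilradical.mpr (Ring.KrullDimLE.isNilpotent_iff_mem_maximalIdeal.mpr ha)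
    rwa [nilradical_eq_zero] at hn) bot_le
  letI := hK.toField
  suffices Module.Flat K₁ (K₁ ⊗[A₁] L) from
    Module.Flat.of_linearEquiv (LocalizedModule.equivTensorProduct q.primeCompl L)
  refine flat_tensor_localized T ψ K₁ fun Q _ _ _ _ N x hx ↦ ⟨1, T.one_mem, ?_⟩
  rw [one_smul]
  letI : Module A Q := Module.compHom Q (algebraMap A A₁)
  have : IsScalarTower A A₁ Q := IsScalarTower.of_algebraMap_smul fun _ _ ↦ rfl
  letI : Module K Q := Module.compHom Q (Localization.localRingHom P q (algebraMap A A₁) rfl)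
  have : IsScalarTower A K Q := IsScalarTower.of_algebraMap_smul fun a m ↦ by
    show Localization.localRingHom P q (algebraMap A A₁) rfl (algebraMap A K a) • m = algebraMap A A₁ a • m
    rw [Localization.localRingHom_to_map, algebraMap_smul]
  let NK : Submodule K Q :=
    { carrier := N
      add_mem' := N.add_mem
      zero_mem' := N.zero_mem
      smul_mem' := fun k _ hm ↦ N.smul_mem (Localization.localRingHom P q (algebraMap A A₁) rfl k) hm }
  obtain ⟨r, hr⟩ := LinearMap.exists_leftInverse_of_injective NK.subtype NK.ker_subtype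
  let N₁ := N.restrictScalars A₁
  let incl : N₁ →ₗ[A] Q := N₁.subtype.restrictScalars A
  let rA : Q →ₗ[A] N₁ :=
    { toFun := fun m ↦ ⟨(r m).1, (r m).2⟩
      map_add' := fun a b ↦ Subtype.ext (congrArg Subtype.val (map_add r a b))
      map_smul' := fun a m ↦ Subtype.ext (congrArg Subtype.val ((r.restrictScalars A).map_smul a m)) }
  have hinj : Function.Injective (incl.lTensor M) := by
    refine Function.LeftInverse.injective (g := rA.lTensor M) fun z ↦ ?_
    rw [← LinearMap.comp_apply, ← LinearMap.lTensor_comp]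
    have : rA ∘ₗ incl = LinearMap.id := LinearMap.ext fun n ↦
      Subtype.ext (congrArg Subtype.val (LinearMap.congr_fun hr ⟨n.1, n.2⟩))
    rw [this, LinearMap.lTensor_id]
    rfl
  obtain ⟨y, rfl⟩ := (kappa_bijective ι N₁ hι).2 x
  have hy : kappa ι Q (incl.lTensor M y) = 0 := (kappa_lTensor ι N₁ N₁.subtype y).trans hx
  rw [hinj ((((kappa_bijective ι Q hι).1 (hy.trans (map_zero _).symm))).trans (map_zero _).symm)]
  exact map_zero (kappa ι N₁)

end Generic

section Main

/-- The valuative criterion, with the completion abstracted. -/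
theorem mem_flatLocus_of_dvrHyp_aux {A A₁ B M : Type u} [CommRing A] [IsLocalRing A] [IsNoetherianRing A]
    [IsReduced A] [CommRing A₁] [IsLocalRing A₁] [IsNoetherianRing A₁]
    [IsAdicComplete (maximalIdeal A₁) A₁] [Algebra A A₁] [Module.Flat A A₁]
    [IsLocalHom (algebraMap A A₁)]
    [CommRing B] [Algebra A B] [Algebra.FiniteType A B] [AddCommGroup M] [Module B M] [Module A M]
    [IsScalarTower A B M] [Module.Finite B M] {p : PrimeSpectrum B}
    (α : A₁ →ₐ[A] B ⧸ p.asIdeal) (hα : RingHom.ker α = maximalIdeal A₁)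
    (h : DvrHyp A M p.asIdeal) : p ∈ flatLocus A B M := by
  classical
  let B₁ := BCA A A₁ B
  let M₁ := BCM A B M A₁
  have : IsNoetherianRing B₁ := Algebra.FiniteType.isNoetherianRing A₁ B₁
  have hflatB : Module.Flat B B₁ := Module.Flat.isBaseChange A B A₁ B₁
    (Algebra.IsPushout.out (R := A) (S := B) (R' := A₁) (S' := B₁))
  let π : B₁ →ₐ[A] B ⧸ p.asIdeal :=
    Algebra.TensorProduct.lift α (Ideal.Quotient.mkₐ A p.asIdeal) fun _ _ ↦ Commute.all _ _
  let p₁ : PrimeSpectrum B₁ := ⟨RingHom.ker π, RingHom.ker_isPrime π⟩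
  have : p₁.asIdeal.IsPrime := p₁.isPrime
  have hp₁ : PrimeSpectrum.comap (algebraMap B B₁) p₁ = p := by
    ext b
    show Algebra.TensorProduct.lift α (Ideal.Quotient.mkₐ A p.asIdeal) _ ((1 : A₁) ⊗ₜ b) = 0 ↔ _
    rw [Algebra.TensorProduct.lift_tmul, map_one, one_mul]
    exact Ideal.Quotient.eq_zero_iff_mem
  have hp₁' : p₁.asIdeal.comap (algebraMap A₁ B₁) = maximalIdeal A₁ := by
    rw [← hα]
    ext a
    show Algebra.TensorProduct.lift α (Ideal.Quotient.mkₐ A p.asIdeal) _ (a ⊗ₜ (1 : B)) = 0 ↔ α a = 0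
    rw [Algebra.TensorProduct.lift_tmul, map_one, mul_one]
  let ι := bcι A B M A₁
  have hι := isBaseChange_bcι A B M A₁
  have hιA := isBaseChange_restrict (A := A) (A' := A₁) ι hι
  have h₁ : DvrHyp A₁ M₁ p₁.asIdeal := h.trans ι hι _ (congrArg PrimeSpectrum.asIdeal hp₁)
  suffices hmain : p₁ ∈ flatLocus A₁ B₁ M₁ by
    refine mem_flatLocus_of_flat_algebra (A := A) (M := M) p p₁ hp₁ ?_
    have : Module.Flat A₁ (LocalizedModule p₁.asIdeal.primeCompl M₁) := hmain
    exact Module.Flat.trans A A₁ _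
  let L := LocalizedModule p₁.asIdeal.primeCompl M₁
  show Module.Flat A₁ L
  refine (Groth.Agent.S2574.result (nilradical A₁) ?_ L).mpr ⟨?_, fun q ↦ ?_⟩
  · exact (IsNoetherianRing.isNilpotent_nilradical A₁)
  · let A₂ := A₁ ⧸ nilradical A₁
    have hN : nilradical A₁ ≤ maximalIdeal A₁ := nilradical_le_prime _
    have : Nontrivial A₂ := Ideal.Quotient.nontrivial_iff.mpr fun e ↦
      (maximalIdeal.isMaximal A₁).ne_top (top_le_iff.mp (e.ge.trans hN))
    have : IsLocalRing A₂ := IsLocalRing.of_surjective' _ Ideal.Quotient.mk_surjective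
    have : IsLocalHom (algebraMap A₁ A₂) :=
      Function.Surjective.isLocalHom _ Ideal.Quotient.mk_surjective
    have : IsReduced A₂ := (Ideal.isRadical_iff_quotient_reduced _).mp (Ideal.radical_isRadical _)
    have hmax : maximalIdeal A₂ = (maximalIdeal A₁).map (Ideal.Quotient.mk _) :=
      (IsLocalRing.eq_maximalIdeal (Ideal.IsMaximal.map_of_surjective_of_ker_le
        Ideal.Quotient.mk_surjective (by rwa [Ideal.mk_ker]))).symm
    have : IsAdicComplete (maximalIdeal A₂) A₂ := hmax ▸ AdicRingLib.RigClosed.isAdicComplete_quotient (maximalIdeal A₁) (nilradical A₁)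
    let B₂ := BCA A₁ A₂ B₁
    let M₂ := BCM A₁ B₁ M₁ A₂
    have : IsNoetherianRing B₂ := isNoetherianRing_quotient (nilradical A₁)
    obtain ⟨p₂, hp₂⟩ := exists_point_quotient (J := nilradical A₁) (p := p₁) (hp₁'.symm ▸ hN)
    have hp₂' : p₂.asIdeal.comap (algebraMap A₂ B₂) = maximalIdeal A₂ := by
      refine IsLocalRing.eq_maximalIdeal ?_
      have e : (p₂.asIdeal.comap (algebraMap A₂ B₂)).comap (algebraMap A₁ A₂) = maximalIdeal A₁ := by
        rw [← hp₁', ← hp₂, Ideal.comap_comap, Ideal.comap_comap, ← IsScalarTower.algebraMap_eq,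
          ← IsScalarTower.algebraMap_eq]
      have : ((p₂.asIdeal.comap (algebraMap A₂ B₂)).comap (algebraMap A₁ A₂)).IsMaximal :=
        e ▸ maximalIdeal.isMaximal _
      exact Ideal.isMaximal_of_isIntegral_of_isMaximal_comap _ this
    refine flat_tensor_of_mem_flatLocus (algebraMap B₁ B₂) (surjective_algebraMap_quotient _)
      ((bcι A₁ B₁ M₁ A₂).restrictScalars A₁) (isBaseChange_restrict _ (isBaseChange_bcι A₁ B₁ M₁ A₂))
      (fun b m ↦ by rw [LinearMap.restrictScalars_apply, map_smul, algebraMap_smul]; rfl)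
      p₁ p₂ (PrimeSpectrum.ext hp₂) ?_
    exact mem_flatLocus_of_dvrHyp_complete hp₂'
      (h₁.trans (bcι A₁ B₁ M₁ A₂) (isBaseChange_bcι A₁ B₁ M₁ A₂) _ hp₂)
  · have := IsAssociatedPrime.isPrime q.2
    exact flat_localized_assoc (A := A) (ι.restrictScalars A) hιA p₁.asIdeal.primeCompl
      (LocalizedModule.mkLinearMap _ M₁) q.2

/-- The valuative criterion of flatness. -/
theorem mem_flatLocus_of_dvrHyp {A B M : Type u} [CommRing A] [IsLocalRing A] [IsNoetherianRing A]
    [IsReduced A] [CommRing B] [Algebra A B] [Algebra.FiniteType A B] [AddCommGroup M] [Module B M]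
    [Module A M] [IsScalarTower A B M] [Module.Finite B M] {p : PrimeSpectrum B}
    (hp : p.asIdeal.comap (algebraMap A B) = maximalIdeal A) (h : DvrHyp A M p.asIdeal) :
    p ∈ flatLocus A B M := by
  let A₁ := AdicCompletion (maximalIdeal A) A
  have : IsNoetherianRing A₁ := Groth.Agent.S0543.result A (maximalIdeal A)
  let κ : A ⧸ maximalIdeal A →ₐ[A] B ⧸ p.asIdeal :=
    Ideal.Quotient.liftₐ _ (Algebra.ofId A _) fun a ha ↦ by
      show algebraMap A (B ⧸ p.asIdeal) a = 0
      exact Ideal.Quotient.eq_zero_iff_mem.mpr (hp.ge ha)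
  let α : A₁ →ₐ[A] B ⧸ p.asIdeal := κ.comp (AdicCompletion.evalOneₐ (maximalIdeal A))
  refine mem_flatLocus_of_dvrHyp_aux (A₁ := A₁) α ?_ h
  refine (IsLocalRing.eq_maximalIdeal ?_)
  have : RingHom.ker α = RingHom.ker (AdicCompletion.evalOneₐ (maximalIdeal A)) := by
    have hκ : Function.Injective κ := by
      letI := Ideal.Quotient.field (maximalIdeal A)
      exact (κ.toRingHom).injective
    ext x
    exact ⟨fun hx ↦ hκ ((RingHom.mem_ker.mp hx).trans (map_zero κ).symm), fun hx ↦ by
      show κ (AdicCompletion.evalOneₐ _ x) = 0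
      rw [RingHom.mem_ker.mp hx, map_zero]⟩
  rw [this]
  letI := Ideal.Quotient.field (maximalIdeal A)
  exact RingHom.ker_isMaximal_of_surjective _ (AdicCompletion.evalOneₐ_surjective _)

end Main

end DvrFlatLib
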