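import Mathlib
import Groth.Agent.DvrFlatLib.Valuative
import Groth.Agent.DvrDom.Basic

/-!
# Reducedness of a flat algebra over a reduced ring, tested on discrete valuation rings
-/

set_option autoImplicit false
universe u

open TensorProduct IsLocalRing FlatLib

attribute [local instance] Algebra.TensorProduct.rightAlgebra

namespace DvrFlatLib

/-- A flat local algebra over a principal ideal domain with reduced closed fibre is reduced. -/
theorem isReduced_of_flat_of_quotient {A S : Type u} [CommRing A] [IsDomain A] [IsPrincipalIdealRing A]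
    [IsLocalRing A] [CommRing S] [IsLocalRing S] [IsNoetherianRing S] [Algebra A S] [Module.Flat A S]
    [IsLocalHom (algebraMap A S)] [IsReduced (S ⧸ (maximalIdeal A).map (algebraMap A S))] :
    IsReduced S := by
  obtain ⟨t, ht⟩ := IsPrincipalIdealRing.principal (maximalIdeal A)
  have ht' : maximalIdeal A = Ideal.span {t} := ht
  let I := (maximalIdeal A).map (algebraMap A S)
  have hI : I = Ideal.span {algebraMap A S t} := by
    simp only [I, ht', Ideal.map_span, Set.image_singleton]
  have hrad : I.IsRadical := (Ideal.isRadical_iff_quotient_reduced I).mpr inferInstance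
  have hnil : nilradical S ≤ I := fun a ha ↦ hrad (Ideal.radical_mono bot_le ha)
  rw [← nilradical_eq_bot_iff]
  by_cases h0 : t = 0
  · refine eq_bot_iff.mpr (hnil.trans ?_)
    rw [hI, h0, map_zero, Ideal.span_singleton_eq_bot.mpr rfl]
  have hreg : IsSMulRegular S (algebraMap A S t) :=
    (isRegular_of_ne_zero h0).left.isSMulRegular.of_flat
  refine Submodule.eq_bot_of_le_smul_of_le_jacobson_bot I _ (IsNoetherian.noetherian _) (fun a ha ↦ ?_) ?_
  · have ha' : a ∈ Ideal.span {algebraMap A S t} := hI ▸ hnil ha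
    obtain ⟨c, rfl⟩ := Ideal.mem_span_singleton'.mp ha'
    have hc : c ∈ nilradical S := by
      obtain ⟨n, hn⟩ := mem_nilradical.mp ha
      refine mem_nilradical.mpr ⟨n, hreg.pow n ?_⟩
      show algebraMap A S t ^ n • c ^ n = algebraMap A S t ^ n • 0
      rw [smul_eq_mul, ← mul_pow, mul_comm, hn, smul_zero]
    rw [mul_comm]
    exact Submodule.smul_mem_smul (hI ▸ Ideal.mem_span_singleton_self _) hc
  · rw [IsLocalRing.jacobson_eq_maximalIdeal _ bot_ne_top]
    exact ((IsLocalRing.local_hom_TFAE (algebraMap A S)).out 0 2 rfl rfl).mp inferInstance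

/-- Vanishing at a point descends along flat algebras. -/
theorem exists_mul_eq_zero_of_flat {B C : Type u} [CommRing B] [CommRing C] [Algebra B C] [Module.Flat B C]
    (p : Ideal B) (Q : Ideal C) (hQ : Q.comap (algebraMap B C) = p) {b : B} {c : C} (hc : c ∉ Q)
    (h : c * algebraMap B C b = 0) : ∃ t ∉ p, t * b = 0 := by
  by_contra hcon
  push Not at hcon
  let I : Ideal B := LinearMap.ker (LinearMap.toSpanSingleton B B b)
  have hI : I ≤ p := fun t ht ↦ by
    by_contra htp
    exact hcon t htp (LinearMap.mem_ker.mp ht)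
  let g : B ⧸ I →ₗ[B] B := Submodule.liftQ I _ le_rfl
  have hg : Function.Injective g := LinearMap.ker_eq_bot.mp (Submodule.ker_liftQ_eq_bot _ _ _ le_rfl)
  have h1 : c ⊗ₜ[B] Ideal.Quotient.mk I 1 = (0 : C ⊗[B] (B ⧸ I)) := by
    refine Module.Flat.lTensor_preserves_injective_linearMap (M := C) g hg ?_
    apply (TensorProduct.rid B C).injective
    rw [map_zero, LinearMap.lTensor_tmul, map_zero, TensorProduct.rid_tmul]
    show ((1 : B) • b) • c = 0
    rw [one_smul, Algebra.smul_def, mul_comm]
    exact h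
  have h2 := congrArg (TensorProduct.tensorQuotEquivQuotSMul C I) h1
  rw [map_zero, TensorProduct.tensorQuotEquivQuotSMul_tmul_mk, one_smul, Submodule.Quotient.mk_eq_zero,
    Ideal.smul_top_eq_map, Submodule.restrictScalars_mem] at h2
  exact hc (Ideal.map_le_iff_le_comap.mpr (hI.trans hQ.ge) h2)

theorem exists_mul_eq_zero_of_point {R B L : Type u} [CommRing R] [CommRing B] [Algebra R B] [Field L]
    [Algebra R L] [Module.Flat R L] (Q : Ideal B) (ψ : B →ₐ[R] L) (hψ : ∀ d, ψ d = 0 ↔ d ∈ Q) {b : B}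
    {c : L ⊗[R] B}
    (hc : c ∉ RingHom.ker (Algebra.TensorProduct.lift (AlgHom.id R L) ψ fun _ _ ↦ Commute.all _ _))
    (h : c * ((1 : L) ⊗ₜ b) = 0) : ∃ t ∉ Q, t * b = 0 := by
  have : Module.Flat B (L ⊗[R] B) := Module.Flat.isBaseChange R B L (L ⊗[R] B)
    (Algebra.IsPushout.out (R := R) (S := B) (R' := L) (S' := L ⊗[R] B))
  refine exists_mul_eq_zero_of_flat Q
    (RingHom.ker (Algebra.TensorProduct.lift (AlgHom.id R L) ψ fun _ _ ↦ Commute.all _ _)) ?_ hc h
  ext d
  show Algebra.TensorProduct.lift (AlgHom.id R L) ψ _ ((1 : L) ⊗ₜ d) = 0 ↔ _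
  rw [Algebra.TensorProduct.lift_tmul, map_one, one_mul]
  exact hψ d

theorem exists_mul_eq_zero_of_dvr {R B : Type u} [CommRing R] [CommRing B] [Algebra R B]
    [IsNoetherianRing B] (Q q : PrimeSpectrum B) (hle : Q.asIdeal ≤ q.asIdeal) (hne : Q.asIdeal ≠ q.asIdeal)
    (hflatL : Module.Flat R (FractionRing (B ⧸ Q.asIdeal))) {b : B} (hb : IsNilpotent b)
    (H : ∀ (A' : Type u) [CommRing A'] [IsDomain A'] [IsDiscreteValuationRing A'] [Algebra R A'],
      (maximalIdeal A').comap (algebraMap R A') = q.asIdeal.comap (algebraMap R B) →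
      ∀ Q : PrimeSpectrum (BCA R A' B), Q.asIdeal.comap (algebraMap B (BCA R A' B)) = q.asIdeal →
        Q.asIdeal.comap (algebraMap A' (BCA R A' B)) = maximalIdeal A' →
        ∀ n : BCA R A' B, IsNilpotent n → ∃ c ∉ Q.asIdeal, c * n = 0) :
    ∃ t ∉ Q.asIdeal, t * b = 0 := by
  let p := q.asIdeal.comap (algebraMap R B)
  -- the discrete valuation ring dominating the curve from `Q` to `q`
  let L := FractionRing (B ⧸ Q.asIdeal)
  have : Module.Flat R L := hflatL
  have hL : ∀ c : B, algebraMap B L c = 0 ↔ c ∈ Q.asIdeal := fun c ↦ by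
    rw [IsScalarTower.algebraMap_apply B (B ⧸ Q.asIdeal) L,
      map_eq_zero_iff _ (IsFractionRing.injective (B ⧸ Q.asIdeal) L), Ideal.Quotient.algebraMap_eq,
      Ideal.Quotient.eq_zero_iff_mem]
  have hgen : Subfield.closure (Set.range (algebraMap B L) ∪ ((∅ : Finset L) : Set L)) = ⊤ := by
    refine top_le_iff.mp fun x _ ↦ ?_
    obtain ⟨c, d, _, rfl⟩ := IsFractionRing.div_surjective (B ⧸ Q.asIdeal) x
    obtain ⟨c, rfl⟩ := Ideal.Quotient.mk_surjective c
    obtain ⟨d, rfl⟩ := Ideal.Quotient.mk_surjective d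
    exact div_mem (Subfield.subset_closure (Or.inl ⟨c, rfl⟩)) (Subfield.subset_closure (Or.inl ⟨d, rfl⟩))
  obtain ⟨W, hW, hmem, hlt⟩ := DvrDomLib.exists_dvr_dominating (L := L) q.asIdeal
    (fun c hc ↦ hle ((hL c).mp hc))
    (by
      obtain ⟨c, hc, hcQ⟩ := SetLike.exists_of_lt (lt_of_le_of_ne hle hne)
      exact ⟨c, hc, fun h ↦ hcQ ((hL c).mp h)⟩) ∅ hgen
  letI : Algebra R W := ((algebraMap R L).codRestrict W.toSubring fun r ↦ by
    rw [IsScalarTower.algebraMap_apply R B L]; exact hmem _).toAlgebra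
  have : IsScalarTower R W L := IsScalarTower.of_algebraMap_eq fun _ ↦ rfl
  let ψB : B →ₐ[R] W :=
    { (algebraMap B L).codRestrict W.toSubring hmem with
      commutes' := fun r ↦ Subtype.ext (IsScalarTower.algebraMap_apply R B L r).symm }
  have hψB : ∀ c, c ∈ q.asIdeal ↔ ψB c ∈ maximalIdeal W := fun c ↦ by
    rw [← hlt]
    exact (W.valuation_lt_one_iff (ψB c)).symm
  have hmW : (maximalIdeal W).comap (algebraMap R W) = p := by
    ext r
    rw [Ideal.mem_comap, ← ψB.commutes, ← hψB]
    rfl
  let μ : BCA R W B →ₐ[R] W := Algebra.TensorProduct.lift (AlgHom.id R W) ψB fun _ _ ↦ Commute.all _ _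
  let Q₀ : PrimeSpectrum (BCA R W B) := ⟨(maximalIdeal W).comap μ, inferInstance⟩
  have hμW : ∀ w, μ (w ⊗ₜ (1 : B)) = w := fun w ↦ by
    show Algebra.TensorProduct.lift _ _ _ (w ⊗ₜ (1 : B)) = _
    rw [Algebra.TensorProduct.lift_tmul, map_one, mul_one]; rfl
  have hμB : ∀ c, μ ((1 : W) ⊗ₜ c) = ψB c := fun c ↦ by
    show Algebra.TensorProduct.lift _ _ _ ((1 : W) ⊗ₜ c) = _
    rw [Algebra.TensorProduct.lift_tmul, map_one, one_mul]
  obtain ⟨c, hc, hcn⟩ := H W hmW Q₀
    (Ideal.ext fun c ↦ show μ ((1 : W) ⊗ₜ c) ∈ maximalIdeal W ↔ c ∈ q.asIdeal by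
      rw [hμB]; exact (hψB c).symm)
    (Ideal.ext fun w ↦ show μ (w ⊗ₜ (1 : B)) ∈ maximalIdeal W ↔ w ∈ maximalIdeal W by rw [hμW])
    (algebraMap B (BCA R W B) b) (hb.map _)
  -- the generic point
  let μL : L ⊗[R] B →ₐ[R] L :=
    Algebra.TensorProduct.lift (AlgHom.id R L) (IsScalarTower.toAlgHom R B L) fun _ _ ↦ Commute.all _ _
  let j : BCA R W B →ₐ[R] L ⊗[R] B := Algebra.TensorProduct.map (IsScalarTower.toAlgHom R W L) (AlgHom.id R B)
  have hj : ∀ z, μL (j z) = (μ z : L) := fun z ↦ by
    induction z using TensorProduct.induction_on with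
    | zero => simp
    | add x y hx hy => simp only [map_add, hx, hy]; rfl
    | tmul w c =>
      show Algebra.TensorProduct.lift (AlgHom.id R L) (IsScalarTower.toAlgHom R B L) _
        (Algebra.TensorProduct.map (IsScalarTower.toAlgHom R W L) (AlgHom.id R B) (w ⊗ₜ c)) =
          ((Algebra.TensorProduct.lift (AlgHom.id R W) ψB _ (w ⊗ₜ c) : W) : L)
      rw [Algebra.TensorProduct.map_tmul, Algebra.TensorProduct.lift_tmul, Algebra.TensorProduct.lift_tmul]
      rfl
  have hc' : j c ∉ RingHom.ker μL := fun h ↦ hc (by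
    have h1 : (μ c : L) = 0 := (hj c).symm.trans h
    have h2 : μ c = 0 := Subtype.ext h1
    show μ c ∈ maximalIdeal W
    rw [h2]
    exact zero_mem _)
  exact exists_mul_eq_zero_of_point Q.asIdeal (IsScalarTower.toAlgHom R B L) hL hc' (by
      have h1 := congrArg j hcn
      rw [map_mul, map_zero] at h1
      have h2 : j (algebraMap B (BCA R W B) b) = (1 : L) ⊗ₜ b := by
        show j ((1 : W) ⊗ₜ b) = (1 : L) ⊗ₜ b
        simp [j]
      rwa [h2] at h1)

/-- A field over a reduced Noetherian local ring lying over a minimal prime is flat. -/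
theorem flat_of_minimal {R A L : Type u} [CommRing R] [CommRing A] [IsReduced A] [Algebra R A]
    [Module.Flat R A] [Field L] [Algebra R L] [Algebra A L] [IsScalarTower R A L]
    (hP : RingHom.ker (algebraMap A L) ∈ minimalPrimes A) : Module.Flat R L := by
  let P := RingHom.ker (algebraMap A L)
  have : P.IsPrime := hP.1.1
  let K := Localization.AtPrime P
  have : Ring.KrullDimLE 0 K := Ring.KrullDimLE.of_isLocalization P hP K
  have hK : IsField K := IsLocalRing.isField_iff_maximalIdeal_eq.mpr <| le_antisymm (fun a ha ↦ by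
    have hn : a ∈ nilradical K := mem_nilradical.mpr (Ring.KrullDimLE.isNilpotent_iff_mem_maximalIdeal.mpr ha)
    rwa [nilradical_eq_zero] at hn) bot_le
  letI := hK.toField
  have huK : ∀ y : P.primeCompl, IsUnit (algebraMap A L y) := fun y ↦
    isUnit_iff_ne_zero.mpr fun h ↦ y.2 h
  letI : Algebra K L := (IsLocalization.lift huK).toAlgebra
  have : IsScalarTower A K L := IsScalarTower.of_algebraMap_eq fun r ↦ (IsLocalization.lift_eq huK r).symm
  have : Module.Flat A L := Module.Flat.trans A K L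
  exact Module.Flat.trans R A L

/-- Reducedness at a point of a flat algebra over a reduced local ring, tested on discrete valuation rings. -/
theorem isReduced_localization_of_dvr {R B : Type u} [CommRing R] [CommRing B] [Algebra R B]
    [IsNoetherianRing B] (q : PrimeSpectrum B)
    [IsNoetherianRing (Localization.AtPrime (q.asIdeal.comap (algebraMap R B)))]
    [IsReduced (Localization.AtPrime (q.asIdeal.comap (algebraMap R B)))]
    (hflat : q ∈ flatLocus R B B)
    (h0 : IsReduced (Localization.AtPrime q.asIdeal ⧸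
      (q.asIdeal.comap (algebraMap R B)).map (algebraMap R (Localization.AtPrime q.asIdeal))))
    (H : ∀ (A' : Type u) [CommRing A'] [IsDomain A'] [IsDiscreteValuationRing A'] [Algebra R A'],
      (maximalIdeal A').comap (algebraMap R A') = q.asIdeal.comap (algebraMap R B) →
      ∀ Q : PrimeSpectrum (BCA R A' B), Q.asIdeal.comap (algebraMap B (BCA R A' B)) = q.asIdeal →
        Q.asIdeal.comap (algebraMap A' (BCA R A' B)) = maximalIdeal A' →
        ∀ n : BCA R A' B, IsNilpotent n → ∃ c ∉ Q.asIdeal, c * n = 0) :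
    IsReduced (Localization.AtPrime q.asIdeal) := by
  classical
  let p := q.asIdeal.comap (algebraMap R B)
  let A := Localization.AtPrime p
  let S := Localization.AtPrime q.asIdeal
  let φ : A →+* S := Localization.localRingHom p q.asIdeal (algebraMap R B) rfl
  letI : Algebra A S := φ.toAlgebra
  have : IsScalarTower R A S := IsScalarTower.of_algebraMap_eq fun r ↦ by
    show algebraMap R S r = φ (algebraMap R A r)
    rw [Localization.localRingHom_to_map, ← IsScalarTower.algebraMap_apply]
  have : IsNoetherianRing S := IsLocalization.isNoetherianRing q.asIdeal.primeCompl _ inferInstance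
  have : Module.Flat R S := flat_of_le q.asIdeal.primeCompl (LocalizedModule.mkLinearMap _ B)
    q.asIdeal.primeCompl (Algebra.linearMap B S) le_rfl hflat
  have : Module.Flat A S := (Module.flat_iff_of_isLocalization A p.primeCompl S).mpr ‹_›
  rw [← nilradical_eq_bot_iff, eq_bot_iff]
  intro s hs
  by_contra hs0
  obtain ⟨Q₁, hQ₁, hQ₁le⟩ := exists_le_isAssociatedPrime_of_isNoetherianRing S s hs0
  have := hQ₁.isPrime
  have hmin : Q₁.comap (algebraMap A S) ∈ minimalPrimes A := comap_mem_minimalPrimes hQ₁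
  obtain ⟨b, u, rfl⟩ := IsLocalization.exists_mk'_eq q.asIdeal.primeCompl s
  have hb : IsNilpotent (algebraMap B S b) := by
    rw [← IsLocalization.mk'_spec S b u]
    exact (Commute.all _ _).isNilpotent_mul_right (mem_nilradical.mp hs)
  obtain ⟨m, hm⟩ := hb
  rw [← map_pow] at hm
  obtain ⟨v, hv⟩ := (IsLocalization.map_eq_zero_iff q.asIdeal.primeCompl S _).mp hm
  let b' : B := v * b
  have hb' : IsNilpotent b' := ⟨m + 1, by
    show ((v : B) * b) ^ (m + 1) = 0
    calc ((v : B) * b) ^ (m + 1) = (v : B) ^ m * b * ((v : B) * b ^ m) := by ring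
      _ = 0 := by rw [hv, mul_zero]⟩
  let Q : PrimeSpectrum B := ⟨Q₁.comap (algebraMap B S), inferInstance⟩
  have hQq : Q.asIdeal ≤ q.asIdeal := fun c hc ↦
    (IsLocalization.AtPrime.to_map_mem_maximal_iff S q.asIdeal c).mp (le_maximalIdeal ‹Q₁.IsPrime›.ne_top hc)
  suffices hkill : ∃ t ∉ Q.asIdeal, t * b' = 0 by
    obtain ⟨t, ht, htb⟩ := hkill
    refine ht (hQ₁le (Submodule.mem_colon_singleton.mpr ?_))
    rw [Submodule.mem_bot, smul_eq_mul]
    have h1 : algebraMap B S (t * v) * algebraMap B S b = 0 := by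
      rw [← map_mul, mul_assoc]
      show algebraMap B S (t * b') = 0
      rw [htb, map_zero]
    rw [map_mul, mul_assoc, mul_comm (algebraMap B S v), ← mul_assoc] at h1
    have h2 := (IsLocalization.map_units S v).mul_left_eq_zero.mp h1
    rw [← IsLocalization.mk'_spec S b u, ← mul_assoc] at h2
    exact (IsLocalization.map_units S u).mul_left_eq_zero.mp h2
  by_cases hQeq : Q.asIdeal = q.asIdeal
  · have hfield : IsField A := by
      refine IsLocalRing.isField_iff_maximalIdeal_eq.mpr (eq_bot_iff.mpr fun a ha ↦ ?_)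
      have hn : a ∈ nilradical A := by
        rw [nilradical, ← Ideal.sInf_minimalPrimes, Submodule.mem_sInf]
        intro P hP
        have hPm : Q₁.comap (algebraMap A S) = maximalIdeal A := by
          refine le_antisymm (le_maximalIdeal (Ideal.IsPrime.ne_top inferInstance)) fun x hx ↦ ?_
          obtain ⟨r, w, rfl⟩ := IsLocalization.exists_mk'_eq p.primeCompl x
          have hr : r ∈ p := (IsLocalization.AtPrime.mk'_mem_maximal_iff A p r w).mp hx
          rw [IsLocalization.mk'_mem_iff, Ideal.mem_comap, ← IsScalarTower.algebraMap_apply,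
            IsScalarTower.algebraMap_apply R B S]
          exact hQeq.ge hr
        exact hmin.2 hP.1 (hPm ▸ le_maximalIdeal hP.1.1.ne_top) (hPm ▸ ha)
      rwa [nilradical_eq_zero] at hn
    have hp0 : p.map (algebraMap R S) = ⊥ := by
      rw [IsScalarTower.algebraMap_eq R A S, ← Ideal.map_map, IsLocalization.AtPrime.map_eq_maximalIdeal p A,
        IsLocalRing.isField_iff_maximalIdeal_eq.mp hfield, Ideal.map_bot]
    have : IsReduced S :=
      isReduced_of_injective (Ideal.Quotient.mk (p.map (algebraMap R S))) (by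
        rw [RingHom.injective_iff_ker_eq_bot, Ideal.mk_ker, hp0])
    exact absurd (mem_nilradical.mp hs).eq_zero hs0
  refine exists_mul_eq_zero_of_dvr Q q hQq hQeq ?_ hb' H
  let L := FractionRing (B ⧸ Q.asIdeal)
  have hL : ∀ c : B, algebraMap B L c = 0 ↔ c ∈ Q.asIdeal := fun c ↦ by
    rw [IsScalarTower.algebraMap_apply B (B ⧸ Q.asIdeal) L,
      map_eq_zero_iff _ (IsFractionRing.injective (B ⧸ Q.asIdeal) L), Ideal.Quotient.algebraMap_eq,
      Ideal.Quotient.eq_zero_iff_mem]
  have huA : ∀ y : p.primeCompl, IsUnit (algebraMap R L y) := fun y ↦ by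
    rw [isUnit_iff_ne_zero, IsScalarTower.algebraMap_apply R B L, Ne, hL]
    exact fun h ↦ y.2 (hQq h)
  letI : Algebra A L := (IsLocalization.lift huA).toAlgebra
  have : IsScalarTower R A L := IsScalarTower.of_algebraMap_eq fun r ↦ (IsLocalization.lift_eq huA r).symm
  have hker : RingHom.ker (algebraMap A L) = Q₁.comap (algebraMap A S) := by
    ext x
    obtain ⟨r, w, rfl⟩ := IsLocalization.exists_mk'_eq p.primeCompl x
    have h1 : algebraMap A L (IsLocalization.mk' A r w) * algebraMap R L w = algebraMap R L r := by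
      rw [IsScalarTower.algebraMap_apply R A L w, ← map_mul, IsLocalization.mk'_spec, ← IsScalarTower.algebraMap_apply]
    rw [RingHom.mem_ker, IsLocalization.mk'_mem_iff, Ideal.mem_comap, ← IsScalarTower.algebraMap_apply,
      IsScalarTower.algebraMap_apply R B S]
    show _ ↔ algebraMap R B r ∈ Q.asIdeal
    rw [← hL, ← IsScalarTower.algebraMap_apply, ← h1]
    exact ⟨fun h ↦ by rw [h, zero_mul], fun h ↦ (huA w).mul_left_eq_zero.mp h⟩
  exact flat_of_minimal (A := A) (hker ▸ hmin)

end DvrFlatLib
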