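import Mathlib
import Groth.Agent.DvrFlatLib.Valuative

/-!
# The criteria of flatness at a point over an arbitrary base point
-/

set_option autoImplicit false
universe u

open TensorProduct IsLocalRing FlatLib

attribute [local instance] Algebra.TensorProduct.rightAlgebra

namespace DvrFlatLib

section Map

variable {A B M : Type u} [CommRing A] [CommRing B] [Algebra A B] [AddCommGroup M] [Module B M]
  [Module A M] [IsScalarTower A B M]

/-- The fibre condition passes to larger algebras. -/
theorem FlatFibre.map {A' A'' : Type u} [CommRing A'] [IsLocalRing A'] [Algebra A A'] [CommRing A'']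
    [IsLocalRing A''] [Algebra A A''] [Algebra A' A''] [IsScalarTower A A' A'']
    [IsLocalHom (algebraMap A' A'')] {p : Ideal B} (h : FlatFibre A M A' p) : FlatFibre A M A'' p := by
  intro Q hQp hQm
  let ψ : BCA A A' B →ₐ[A] BCA A A'' B := bcMap B (IsScalarTower.toAlgHom A A' A'')
  have hψB : ∀ b, ψ (algebraMap B (BCA A A' B) b) = algebraMap B (BCA A A'' B) b := bcMap_right _
  have hψA : ∀ a, ψ (algebraMap A' (BCA A A' B) a) =
      algebraMap A'' (BCA A A'' B) (algebraMap A' A'' a) := bcMap_left _
  refine mem_flatLocus_of_map (bcι A B M A') (isBaseChange_bcι A B M A')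
    (isBaseChange_restrict (A := A) (A' := A') _ (isBaseChange_bcι A B M A')) (bcι A B M A'')
    (isBaseChange_restrict (A := A) (A' := A'') _ (isBaseChange_bcι A B M A'')) ψ.toRingHom hψA hψB Q
    (h _ ?_ ?_)
  · rw [← hQp]
    ext b
    simp only [Ideal.mem_comap, PrimeSpectrum.comap_asIdeal]
    show ψ (algebraMap B _ b) ∈ Q.asIdeal ↔ _
    rw [hψB]
  · rw [← IsLocalRing.maximalIdeal_comap (algebraMap A' A''), ← hQm]
    ext a
    simp only [Ideal.mem_comap, PrimeSpectrum.comap_asIdeal]
    show ψ (algebraMap A' _ a) ∈ Q.asIdeal ↔ _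
    rw [hψA]

/-- Flatness of the whole base change gives the fibre condition. -/
theorem FlatFibre.of_flat {A' : Type u} [CommRing A'] [IsLocalRing A'] [Algebra A A']
    [Module.Flat A' (A' ⊗[A] M)] (p : Ideal B) : FlatFibre A M A' p := by
  intro Q _ _
  have e := (isBaseChange_restrict (A := A) (A' := A') _ (isBaseChange_bcι A B M A')).equiv
  have : Module.Flat A' (BCM A B M A') := Module.Flat.of_linearEquiv e.symm
  exact flat_localized Q.asIdeal.primeCompl (LocalizedModule.mkLinearMap _ (BCM A B M A'))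

end Map

section Localization

variable {R Rq B M : Type u} [CommRing R] [CommRing B] [Algebra R B] [CommRing Rq] [Algebra R Rq]
  [IsLocalRing Rq] [AddCommGroup M] [Module B M] [Module R M] [IsScalarTower R B M]

/-- A point of the localized algebra over a given point. -/
theorem exists_point_localization (p : PrimeSpectrum B)
    [IsLocalization.AtPrime Rq (p.asIdeal.comap (algebraMap R B))] :
    ∃ p₁ : PrimeSpectrum (BCA R Rq B), PrimeSpectrum.comap (algebraMap B (BCA R Rq B)) p₁ = p ∧
      p₁.asIdeal.comap (algebraMap Rq (BCA R Rq B)) = maximalIdeal Rq := by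
  let L := FractionRing (B ⧸ p.asIdeal)
  have hL : ∀ b : B, algebraMap B L b = 0 ↔ b ∈ p.asIdeal := fun b ↦ by
    rw [IsScalarTower.algebraMap_apply B (B ⧸ p.asIdeal) L,
      map_eq_zero_iff _ (IsFractionRing.injective (B ⧸ p.asIdeal) L), Ideal.Quotient.algebraMap_eq,
      Ideal.Quotient.eq_zero_iff_mem]
  have hu : ∀ y : (p.asIdeal.comap (algebraMap R B)).primeCompl, IsUnit (algebraMap R L y) := fun y ↦ by
    rw [isUnit_iff_ne_zero, IsScalarTower.algebraMap_apply R B L, Ne, hL]
    exact y.2
  let α : Rq →ₐ[R] L := IsLocalization.liftAlgHom (M := (p.asIdeal.comap (algebraMap R B)).primeCompl)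
    (f := Algebra.ofId R L) hu
  let π : BCA R Rq B →ₐ[R] L :=
    Algebra.TensorProduct.lift α (IsScalarTower.toAlgHom R B L) fun _ _ ↦ Commute.all _ _
  refine ⟨⟨RingHom.ker π, RingHom.ker_isPrime π⟩, ?_, ?_⟩
  · ext b
    show π ((1 : Rq) ⊗ₜ b) = 0 ↔ _
    rw [Algebra.TensorProduct.lift_tmul, map_one, one_mul]
    exact hL b
  · refine le_antisymm (le_maximalIdeal ((RingHom.ker_isPrime π).comap _).ne_top) fun x hx ↦ ?_
    obtain ⟨r, s, rfl⟩ := IsLocalization.exists_mk'_eq (p.asIdeal.comap (algebraMap R B)).primeCompl x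
    show π (IsLocalization.mk' Rq r s ⊗ₜ (1 : B)) = 0
    have hr : r ∈ p.asIdeal.comap (algebraMap R B) :=
      (IsLocalization.AtPrime.mk'_mem_maximal_iff Rq (p.asIdeal.comap (algebraMap R B)) r s).mp hx
    rw [Algebra.TensorProduct.lift_tmul, map_one, mul_one]
    have h2 : α (IsLocalization.mk' Rq r s) * algebraMap R L s = algebraMap R L r := by
      rw [← α.commutes, ← map_mul, IsLocalization.mk'_spec, α.commutes]
    rw [IsScalarTower.algebraMap_apply R B L r, (hL _).mpr hr] at h2
    exact (mul_eq_zero.mp h2).resolve_right (hu s).ne_zero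

/-- Flatness over a local ring of the base gives flatness over the base. -/
theorem mem_flatLocus_of_localized (p : PrimeSpectrum B) (S : Submonoid R) [IsLocalization S Rq]
    (p₁ : PrimeSpectrum (BCA R Rq B)) (hp₁ : PrimeSpectrum.comap (algebraMap B (BCA R Rq B)) p₁ = p)
    (h : p₁ ∈ flatLocus Rq (BCA R Rq B) (BCM R B M Rq)) : p ∈ flatLocus R B M := by
  have : Module.Flat R Rq := IsLocalization.flat Rq S
  have : Module.Flat B (BCA R Rq B) := Module.Flat.isBaseChange R B Rq (BCA R Rq B)
    (Algebra.IsPushout.out (R := R) (S := B) (R' := Rq) (S' := BCA R Rq B))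
  refine mem_flatLocus_of_flat_algebra (A := R) (M := M) p p₁ hp₁ ?_
  have : p₁.asIdeal.IsPrime := p₁.isPrime
  have : Module.Flat Rq (LocalizedModule p₁.asIdeal.primeCompl (BCM R B M Rq)) := h
  exact Module.Flat.trans R Rq _

/-- The valuative criterion of flatness at a point. -/
theorem mem_flatLocus_of_dvr [Algebra.FiniteType R B] [Module.Finite B M] (p : PrimeSpectrum B)
    [IsLocalization.AtPrime Rq (p.asIdeal.comap (algebraMap R B))] [IsNoetherianRing Rq] [IsReduced Rq]
    (h : ∀ (A' : Type u) [CommRing A'] [IsDomain A'] [IsDiscreteValuationRing A'] [Algebra R A'],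
      (maximalIdeal A').comap (algebraMap R A') = p.asIdeal.comap (algebraMap R B) →
        FlatFibre R M A' p.asIdeal) : p ∈ flatLocus R B M := by
  obtain ⟨p₁, hp₁, hp₁m⟩ := exists_point_localization (R := R) (Rq := Rq) p
  refine mem_flatLocus_of_localized p (p.asIdeal.comap (algebraMap R B)).primeCompl p₁ hp₁ ?_
  have : Module.Finite (BCA R Rq B) (BCM R B M Rq) := inferInstance
  refine mem_flatLocus_of_dvrHyp hp₁m ?_
  intro A' _ _ _ _ _
  letI : Algebra R A' := ((algebraMap Rq A').comp (algebraMap R Rq)).toAlgebra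
  have : IsScalarTower R Rq A' := IsScalarTower.of_algebraMap_eq fun _ ↦ rfl
  refine FlatFibre.trans (h A' ?_) (bcι R B M Rq) (isBaseChange_bcι R B M Rq) _
    (congrArg PrimeSpectrum.asIdeal hp₁)
  rw [IsScalarTower.algebraMap_eq R Rq A', ← Ideal.comap_comap, IsLocalRing.maximalIdeal_comap]
  exact IsLocalization.AtPrime.comap_maximalIdeal Rq (p.asIdeal.comap (algebraMap R B))

/-- The criterion by families of local algebras, at a point. -/
theorem mem_flatLocus_of_family_at [Algebra.FiniteType R B] [Module.Finite B M] (p : PrimeSpectrum B)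
    [IsLocalization.AtPrime Rq (p.asIdeal.comap (algebraMap R B))] [IsNoetherianRing Rq]
    {ι : Type u} (A' : ι → Type u) [∀ i, CommRing (A' i)] [∀ i, IsLocalRing (A' i)]
    [∀ i, Algebra R (A' i)] [∀ i, Algebra Rq (A' i)] [∀ i, IsScalarTower R Rq (A' i)]
    [∀ i, IsLocalHom (algebraMap Rq (A' i))]
    (htop : ∀ N : ℕ, ∃ s : Finset (ι × ℕ),
      ⨅ q ∈ s, Ideal.comap (algebraMap Rq (A' q.1)) (maximalIdeal (A' q.1) ^ q.2) ≤ maximalIdeal Rq ^ N)
    (h : ∀ i, FlatFibre R M (A' i) p.asIdeal) : p ∈ flatLocus R B M := by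
  obtain ⟨p₁, hp₁, hp₁m⟩ := exists_point_localization (R := R) (Rq := Rq) p
  refine mem_flatLocus_of_localized p (p.asIdeal.comap (algebraMap R B)).primeCompl p₁ hp₁ ?_
  have : IsNoetherianRing (BCA R Rq B) := Algebra.FiniteType.isNoetherianRing Rq _
  exact mem_flatLocus_of_family A' htop hp₁m fun i ↦
    FlatFibre.trans (h i) (bcι R B M Rq) (isBaseChange_bcι R B M Rq) _
      (congrArg PrimeSpectrum.asIdeal hp₁)

end Localization

/-- A homomorphism out of a localization at a prime is local if it is so on the base. -/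
theorem isLocalHom_of_comap_eq {R Rq A' : Type u} [CommRing R] [CommRing Rq] [Algebra R Rq] [IsLocalRing Rq]
    (q : Ideal R) [q.IsPrime] [IsLocalization.AtPrime Rq q] [CommRing A'] [IsLocalRing A'] (φ : Rq →+* A')
    (h : (maximalIdeal A').comap (φ.comp (algebraMap R Rq)) = q) : IsLocalHom φ := by
  refine ((IsLocalRing.local_hom_TFAE φ).out 0 4 rfl rfl).mpr ?_
  rw [← IsLocalization.map_comap q.primeCompl Rq ((maximalIdeal A').comap φ), ← Ideal.comap_comap] at *
  rw [show Ideal.under R ((maximalIdeal A').comap φ) = q from h, IsLocalization.AtPrime.map_eq_maximalIdeal q Rq]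

/-- A module over a reduced Noetherian ring is flat if it is flat after base change to all discrete
valuation rings. -/
theorem flat_of_dvr {R B M : Type u} [CommRing R] [IsNoetherianRing R] [IsReduced R] [CommRing B]
    [Algebra R B] [Algebra.FiniteType R B] [AddCommGroup M] [Module B M] [Module R M] [IsScalarTower R B M]
    [Module.Finite B M]
    (h : ∀ (A' : Type u) [CommRing A'] [IsDomain A'] [IsDiscreteValuationRing A'] [Algebra R A'],
      Module.Flat A' (A' ⊗[R] M)) : Module.Flat R M := by
  refine Module.flat_of_isLocalized_maximal (S := B) M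
    (fun P _ ↦ LocalizedModule P.primeCompl M) (fun P _ ↦ LocalizedModule.mkLinearMap P.primeCompl M)
    fun P _ ↦ ?_
  exact mem_flatLocus_of_dvr (Rq := Localization.AtPrime (P.comap (algebraMap R B))) ⟨P, inferInstance⟩
    fun A' _ _ _ _ _ ↦ have := h A'; FlatFibre.of_flat _

end DvrFlatLib
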