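import Mathlib
import Groth.Agent.DvrFlatLib.Global
import Groth.Agent.FlatLib.QStalk
import Groth.Agent.FlatLib.SchemeFlat
import Groth.Agent.QCohLib.Coherent
import Groth.Agent.RichLib.ModFlatStage

/-!
# The fibre condition of flatness, read on schemes
-/

set_option autoImplicit false
universe u

open CategoryTheory CategoryTheory.Limits AlgebraicGeometry FlatLib IsLocalRing

namespace DvrFlatLib

/-- The part of a fibre product with an affine scheme lying over an affine chart is affine. -/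
theorem isAffineOpen_preimage_fst {X Y T : Scheme.{u}} [IsAffine T] (f : X ⟶ Y) (g : T ⟶ Y)
    {U : Y.Opens} (hU : IsAffineOpen U) (hg : g ⁻¹ᵁ U = ⊤) {V : X.Opens} (hV : IsAffineOpen V)
    (hVU : V ≤ f ⁻¹ᵁ U) : IsAffineOpen (pullback.fst f g ⁻¹ᵁ V) := by
  have hgU : Set.range g ⊆ Set.range U.ι := by
    rw [Scheme.Opens.range_ι]
    rintro _ ⟨t, rfl⟩
    have ht : t ∈ g ⁻¹ᵁ U := hg ▸ trivial
    exact ht
  let g' : T ⟶ U := IsOpenImmersion.lift U.ι g hgU
  have hg' : g' ≫ U.ι = g := IsOpenImmersion.lift_fac _ _ _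
  have hfst : Set.range (pullback.fst f g) ⊆ Set.range (f ⁻¹ᵁ U).ι := by
    rw [Scheme.Opens.range_ι]
    rintro _ ⟨z, rfl⟩
    show f (pullback.fst f g z) ∈ U
    rw [← Scheme.Hom.comp_apply, pullback.condition, Scheme.Hom.comp_apply]
    have ht : pullback.snd f g z ∈ g ⁻¹ᵁ U := hg ▸ trivial
    exact ht
  let fst' : pullback f g ⟶ (f ⁻¹ᵁ U : X.Opens) := IsOpenImmersion.lift (f ⁻¹ᵁ U).ι (pullback.fst f g) hfst
  have hfst' : fst' ≫ (f ⁻¹ᵁ U).ι = pullback.fst f g := IsOpenImmersion.lift_fac _ _ _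
  have hw : fst' ≫ (f ∣_ U) = pullback.snd f g ≫ g' := by
    rw [← cancel_mono U.ι, Category.assoc, morphismRestrict_ι, ← Category.assoc, hfst',
      Category.assoc, hg', pullback.condition]
  have sq : IsPullback fst' (pullback.snd f g) (f ∣_ U) g' :=
    IsPullback.of_right (hfst'.symm ▸ hg'.symm ▸ IsPullback.of_hasPullback f g) hw
      (isPullback_morphismRestrict f U).flip
  haveI : IsAffine (U : Scheme.{u}) := hU
  haveI : IsAffineHom g' := inferInstance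
  haveI : IsAffineHom fst' := MorphismProperty.of_isPullback (P := @IsAffineHom) sq.flip inferInstance
  have : IsAffineOpen ((f ⁻¹ᵁ U).ι ⁻¹ᵁ V) :=
    hV.preimage_of_isOpenImmersion _ (by rwa [Scheme.Opens.opensRange_ι])
  rw [← hfst', Scheme.Hom.comp_preimage]
  exact this.preimage fst'

/-- The sections over the chart of a fibre product form a pushout. -/
theorem isPushout_chart {X Y T : Scheme.{u}} [IsAffine T] (f : X ⟶ Y) (g : T ⟶ Y)
    {U : Y.Opens} (hU : IsAffineOpen U) (hg : (⊤ : T.Opens) ≤ g ⁻¹ᵁ U) {V : X.Opens} (hV : IsAffineOpen V)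
    (hVU : V ≤ f ⁻¹ᵁ U) :
    letI := (f.appLE U V hVU).hom.toAlgebra
    letI := (g.appLE U ⊤ hg).hom.toAlgebra
    letI := ((pullback.snd f g).appLE ⊤ (pullback.fst f g ⁻¹ᵁ V) le_top).hom.toAlgebra
    letI := ((pullback.fst f g).appLE V (pullback.fst f g ⁻¹ᵁ V) le_rfl).hom.toAlgebra
    letI : Algebra Γ(Y, U) Γ(pullback f g, pullback.fst f g ⁻¹ᵁ V) :=
      (((pullback.fst f g).appLE V (pullback.fst f g ⁻¹ᵁ V) le_rfl).hom.comp
        (f.appLE U V hVU).hom).toAlgebra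
    IsScalarTower Γ(Y, U) Γ(X, V) Γ(pullback f g, pullback.fst f g ⁻¹ᵁ V) ∧
    ∃ _ : IsScalarTower Γ(Y, U) Γ(T, ⊤) Γ(pullback f g, pullback.fst f g ⁻¹ᵁ V),
      (∀ [IsScalarTower Γ(Y, U) Γ(X, V) Γ(pullback f g, pullback.fst f g ⁻¹ᵁ V)],
        Algebra.IsPushout Γ(Y, U) Γ(T, ⊤) Γ(X, V) Γ(pullback f g, pullback.fst f g ⁻¹ᵁ V)) := by
  let P := pullback f g
  let V' : P.Opens := pullback.fst f g ⁻¹ᵁ V
  letI := (f.appLE U V hVU).hom.toAlgebra
  letI := (g.appLE U ⊤ hg).hom.toAlgebra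
  letI := ((pullback.snd f g).appLE ⊤ V' le_top).hom.toAlgebra
  letI := ((pullback.fst f g).appLE V V' le_rfl).hom.toAlgebra
  letI : Algebra Γ(Y, U) Γ(P, V') :=
    (((pullback.fst f g).appLE V V' le_rfl).hom.comp (f.appLE U V hVU).hom).toAlgebra
  haveI h1 : IsScalarTower Γ(Y, U) Γ(X, V) Γ(P, V') := IsScalarTower.of_algebraMap_eq fun _ => rfl
  haveI h2 : IsScalarTower Γ(Y, U) Γ(T, ⊤) Γ(P, V') := IsScalarTower.of_algebraMap_eq fun r => by
    show (f.appLE U V hVU ≫ (pullback.fst f g).appLE V V' le_rfl) r =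
      (g.appLE U ⊤ hg ≫ (pullback.snd f g).appLE ⊤ V' le_top) r
    simp only [Scheme.Hom.appLE_comp_appLE, pullback.condition]
  refine ⟨h1, h2, ?_⟩
  have hUY : V' = pullback.fst f g ⁻¹ᵁ V ⊓ pullback.snd f g ⁻¹ᵁ (⊤ : T.Opens) := by simp [V']
  have h := (isIso_pushoutSection_iff (IsPullback.of_hasPullback f g) hg hVU hUY).mp
    (isIso_pushoutSection_of_isAffineOpen (IsPullback.of_hasPullback f g) hg hVU hUY
      hU (isAffineOpen_top T) hV)
  intro _
  exact CommRingCat.isPushout_iff_isPushout.mp h.flip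

/-- The closed point of the spectrum of a local ring, on global sections. -/
theorem eq_closedPoint_of_primeIdealOf {A : Type u} [CommRing A] [IsLocalRing A]
    [IsLocalRing Γ(Spec (CommRingCat.of A), ⊤)] {z : Spec (CommRingCat.of A)}
    (h : ((isAffineOpen_top (Spec (CommRingCat.of A))).primeIdealOf ⟨z, trivial⟩).asIdeal =
      maximalIdeal Γ(Spec (CommRingCat.of A), ⊤)) : z = closedPoint A := by
  have hc : IsClosed {(isAffineOpen_top (Spec (CommRingCat.of A))).primeIdealOf ⟨z, trivial⟩} :=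
    (PrimeSpectrum.isClosed_singleton_iff_isMaximal _).mpr (h ▸ maximalIdeal.isMaximal _)
  have hz : IsClosed ({⟨z, trivial⟩} : Set ↥(⊤ : (Spec (CommRingCat.of A)).Opens)) := by
    refine (isAffineOpen_top (Spec (CommRingCat.of A))).isoSpec.hom.homeomorph.isClosed_image.mp ?_
    erw [Set.image_singleton]
    exact hc
  have hz' : IsClosed ({z} : Set (Spec (CommRingCat.of A))) := by
    have h2 := (Homeomorph.Set.univ (Spec (CommRingCat.of A))).isClosedMap _ hz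
    rw [Set.image_singleton] at h2
    exact h2
  exact PrimeSpectrum.ext (IsLocalRing.eq_maximalIdeal ((PrimeSpectrum.isClosed_singleton_iff_isMaximal z).mp hz'))

section Spec

variable {X Y : Scheme.{u}} (f : X ⟶ Y) {U : Y.Opens} (hU : IsAffineOpen U) {V : X.Opens}
  (hV : IsAffineOpen V) (hVU : V ≤ f ⁻¹ᵁ U) {x : X} (hx : x ∈ V)
  (W : Type u) [CommRing W] [IsLocalRing W]

/-- The morphism of a local algebra over a chart. -/
noncomputable def chartMap (φ : Γ(Y, U) →+* W) : Spec (CommRingCat.of W) ⟶ Y :=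
  Spec.map (CommRingCat.ofHom φ) ≫ hU.fromSpec

omit [IsLocalRing W] in
theorem chartMap_preimage (φ : Γ(Y, U) →+* W) :
    (⊤ : (Spec (CommRingCat.of W)).Opens) ≤ chartMap hU W φ ⁻¹ᵁ U := by
  rw [chartMap, Scheme.Hom.comp_preimage, hU.fromSpec_preimage_self]
  simp

omit [IsLocalRing W] in
theorem chartMap_appLE (φ : Γ(Y, U) →+* W) (r : Γ(Y, U)) :
    (Scheme.ΓSpecIso (CommRingCat.of W)).hom
      ((chartMap hU W φ).appLE U ⊤ (chartMap_preimage hU W φ) r) = φ r := by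
  have h1 : (chartMap hU W φ).appLE U ⊤ (chartMap_preimage hU W φ) =
      (Scheme.ΓSpecIso Γ(Y, U)).inv ≫ (Spec.map (CommRingCat.ofHom φ)).appTop := by
    have hle : (⊤ : (Spec (CommRingCat.of W)).Opens) ≤ Spec.map (CommRingCat.ofHom φ) ⁻¹ᵁ (⊤ : (Spec Γ(Y, U)).Opens) :=
      le_top
    have hle' : (⊤ : (Spec Γ(Y, U)).Opens) ≤ hU.fromSpec ⁻¹ᵁ U := hU.fromSpec_preimage_self.ge
    have e1 : hU.fromSpec.appLE U ⊤ hle' = (Scheme.ΓSpecIso Γ(Y, U)).inv := by
      rw [Scheme.Hom.appLE, hU.fromSpec_app_self, Category.assoc, ← Functor.map_comp]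
      exact (congrArg ((Scheme.ΓSpecIso Γ(Y, U)).inv ≫ ·)
        ((Spec Γ(Y, U)).presheaf.map_id _)).trans (Category.comp_id _)
    have e2 : (Spec.map (CommRingCat.ofHom φ)).appTop =
        (Spec.map (CommRingCat.ofHom φ)).appLE ⊤ ⊤ hle := by simp [Scheme.Hom.appLE]
    rw [e2, ← e1, Scheme.Hom.appLE_comp_appLE]
    rfl
  rw [h1]
  have h2 : (Scheme.ΓSpecIso Γ(Y, U)).inv ≫ (Spec.map (CommRingCat.ofHom φ)).appTop ≫
      (Scheme.ΓSpecIso (CommRingCat.of W)).hom = CommRingCat.ofHom φ := by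
    rw [Scheme.ΓSpecIso_naturality]; exact Iso.inv_hom_id_assoc _ _
  exact congr($h2 r)

include hV hx in
/-- The fibre condition for a quasi-coherent module, from flatness on the fibre product. -/
theorem flatFibre_module (M : X.Modules) [Coh.IsQCoh M] [Algebra Γ(Y, U) W]
    (h : ∀ x' : ↥(pullback f (chartMap hU W (algebraMap Γ(Y, U) W))),
      pullback.fst f (chartMap hU W (algebraMap Γ(Y, U) W)) x' = x →
      pullback.snd f (chartMap hU W (algebraMap Γ(Y, U) W)) x' = closedPoint W →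
      FlatMod.IsFlatOverAt (pullback.snd f (chartMap hU W (algebraMap Γ(Y, U) W)))
        ((Scheme.Modules.pullback (pullback.fst f (chartMap hU W (algebraMap Γ(Y, U) W)))).obj M) x') :
    letI := (f.appLE U V hVU).hom.toAlgebra
    letI : Module Γ(Y, U) Γ(M, V) := Module.compHom Γ(M, V) (f.appLE U V hVU).hom
    haveI : IsScalarTower Γ(Y, U) Γ(X, V) Γ(M, V) := IsScalarTower.of_algebraMap_smul fun _ _ => rfl
    FlatFibre Γ(Y, U) Γ(M, V) W (hV.primeIdealOf ⟨x, hx⟩).asIdeal := by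
  letI := (f.appLE U V hVU).hom.toAlgebra
  letI : Module Γ(Y, U) Γ(M, V) := Module.compHom Γ(M, V) (f.appLE U V hVU).hom
  haveI : IsScalarTower Γ(Y, U) Γ(X, V) Γ(M, V) := IsScalarTower.of_algebraMap_smul fun _ _ => rfl
  let T := Spec (CommRingCat.of W)
  let g : T ⟶ Y := chartMap hU W (algebraMap Γ(Y, U) W)
  have hg : (⊤ : T.Opens) ≤ g ⁻¹ᵁ U := chartMap_preimage hU W _
  let εT : Γ(T, ⊤) ≃+* W := (Scheme.ΓSpecIso (CommRingCat.of W)).commRingCatIsoToRingEquiv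
  haveI : IsLocalRing Γ(T, ⊤) := εT.symm.isLocalRing
  let P := pullback f g
  let fst : P ⟶ X := pullback.fst f g
  let snd : P ⟶ T := pullback.snd f g
  let V' : P.Opens := fst ⁻¹ᵁ V
  have hV' : IsAffineOpen V' := isAffineOpen_preimage_fst f g hU (top_le_iff.mp hg) hV hVU
  let M' := KFlatLib.pb fst M
  haveI : Coh.IsQCoh M' := KFlatLib.isQCoh_pullback fst M
  letI := (g.appLE U ⊤ hg).hom.toAlgebra
  letI : Algebra Γ(T, ⊤) Γ(P, V') := (snd.appLE ⊤ V' le_top).hom.toAlgebra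
  letI : Algebra Γ(X, V) Γ(P, V') := (fst.appLE V V' le_rfl).hom.toAlgebra
  letI : Algebra Γ(Y, U) Γ(P, V') :=
    ((fst.appLE V V' le_rfl).hom.comp (f.appLE U V hVU).hom).toAlgebra
  obtain ⟨h1, h2, h3⟩ := isPushout_chart f g hU hg hV hVU
  haveI := h1
  haveI := h2
  haveI : Algebra.IsPushout Γ(Y, U) Γ(T, ⊤) Γ(X, V) Γ(P, V') := h3
  letI : Module Γ(X, V) Γ(M', V') := Module.compHom Γ(M', V') (fst.appLE V V' le_rfl).hom
  haveI : IsScalarTower Γ(X, V) Γ(P, V') Γ(M', V') := IsScalarTower.of_algebraMap_smul fun _ _ => rfl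
  letI : Module Γ(T, ⊤) Γ(M', V') := Module.compHom Γ(M', V') (snd.appLE ⊤ V' le_top).hom
  haveI : IsScalarTower Γ(T, ⊤) Γ(P, V') Γ(M', V') := IsScalarTower.of_algebraMap_smul fun _ _ => rfl
  letI : Module Γ(Y, U) Γ(M', V') := Module.compHom Γ(M', V') (algebraMap Γ(Y, U) Γ(P, V'))
  haveI : IsScalarTower Γ(Y, U) Γ(X, V) Γ(M', V') := IsScalarTower.of_algebraMap_smul fun _ _ => rfl
  haveI : IsScalarTower Γ(Y, U) Γ(T, ⊤) Γ(M', V') := IsScalarTower.of_algebraMap_smul fun r m => by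
    show algebraMap Γ(T, ⊤) Γ(P, V') (algebraMap Γ(Y, U) Γ(T, ⊤) r) • m = algebraMap Γ(Y, U) Γ(P, V') r • m
    rw [← IsScalarTower.algebraMap_apply]
  let ψ : Γ(M, V) →ₗ[Γ(X, V)] Γ(M', V') :=
    { toFun := KFlatLib.puSecLE fst M le_rfl
      map_add' := map_add _
      map_smul' := fun r m => by rw [KFlatLib.puSecLE_smul, RingHom.id_apply]; rfl }
  have hψ : IsBaseChange Γ(P, V') ψ :=
    KFlatLib.isBaseChange_puSec fst M hV hV' le_rfl (fun _ => rfl) ψ fun _ => rfl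
  have hT : FlatFibre Γ(Y, U) Γ(M, V) Γ(T, ⊤) (hV.primeIdealOf ⟨x, hx⟩).asIdeal := by
    refine FlatFibre.of_model ψ hψ fun Q hQp hQm => ?_
    obtain ⟨⟨y, hy⟩, rfl⟩ := hV'.isoSpec.hom.surjective Q
    change (hV'.primeIdealOf ⟨y, hy⟩).asIdeal.comap (algebraMap Γ(T, ⊤) Γ(P, V')) = _ at hQm
    change (hV'.primeIdealOf ⟨y, hy⟩).asIdeal.comap (algebraMap Γ(X, V) Γ(P, V')) = _ at hQp
    refine (isFlatOverAt_iff snd M' ⊤ (isAffineOpen_top T) V' hV' le_top hy rfl).mp (h y ?_ ?_)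
    · have e : hV.primeIdealOf ⟨fst y, hy⟩ = hV.primeIdealOf ⟨x, hx⟩ := by
        rw [← IsAffineOpen.comap_primeIdealOf_appLE V hV V' hV' (f := fst) le_rfl hy]
        exact PrimeSpectrum.ext hQp
      exact congrArg Subtype.val (hV.isoSpec.hom.homeomorph.injective e)
    · refine eq_closedPoint_of_primeIdealOf ?_
      rw [← IsAffineOpen.comap_primeIdealOf_appLE ⊤ (isAffineOpen_top T) V' hV' (f := snd) le_top hy]
      exact hQm
  letI : Algebra Γ(T, ⊤) W := εT.toRingHom.toAlgebra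
  haveI : IsScalarTower Γ(Y, U) Γ(T, ⊤) W :=
    IsScalarTower.of_algebraMap_eq fun r => (chartMap_appLE hU W (algebraMap Γ(Y, U) W) r).symm
  haveI : IsLocalHom (algebraMap Γ(T, ⊤) W) := ⟨fun a ha => (isUnit_map_iff εT a).mp ha⟩
  exact hT.map

include hV hx in
/-- The fibre condition for the structure sheaf, from flatness on the fibre product. -/
theorem flatFibre_structure [Algebra Γ(Y, U) W]
    (h : ∀ x' : ↥(pullback f (chartMap hU W (algebraMap Γ(Y, U) W))),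
      pullback.fst f (chartMap hU W (algebraMap Γ(Y, U) W)) x' = x →
      pullback.snd f (chartMap hU W (algebraMap Γ(Y, U) W)) x' = closedPoint W →
      ((pullback.snd f (chartMap hU W (algebraMap Γ(Y, U) W))).stalkMap x').hom.Flat) :
    letI := (f.appLE U V hVU).hom.toAlgebra
    FlatFibre Γ(Y, U) Γ(X, V) W (hV.primeIdealOf ⟨x, hx⟩).asIdeal := by
  letI := (f.appLE U V hVU).hom.toAlgebra
  let T := Spec (CommRingCat.of W)
  let g : T ⟶ Y := chartMap hU W (algebraMap Γ(Y, U) W)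
  have hg : (⊤ : T.Opens) ≤ g ⁻¹ᵁ U := chartMap_preimage hU W _
  let εT : Γ(T, ⊤) ≃+* W := (Scheme.ΓSpecIso (CommRingCat.of W)).commRingCatIsoToRingEquiv
  haveI : IsLocalRing Γ(T, ⊤) := εT.symm.isLocalRing
  let P := pullback f g
  let fst : P ⟶ X := pullback.fst f g
  let snd : P ⟶ T := pullback.snd f g
  let V' : P.Opens := fst ⁻¹ᵁ V
  have hV' : IsAffineOpen V' := isAffineOpen_preimage_fst f g hU (top_le_iff.mp hg) hV hVU
  letI := (g.appLE U ⊤ hg).hom.toAlgebra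
  letI : Algebra Γ(T, ⊤) Γ(P, V') := (snd.appLE ⊤ V' le_top).hom.toAlgebra
  letI : Algebra Γ(X, V) Γ(P, V') := (fst.appLE V V' le_rfl).hom.toAlgebra
  letI : Algebra Γ(Y, U) Γ(P, V') :=
    ((fst.appLE V V' le_rfl).hom.comp (f.appLE U V hVU).hom).toAlgebra
  obtain ⟨h1, h2, h3⟩ := isPushout_chart f g hU hg hV hVU
  haveI := h1
  haveI := h2
  haveI : Algebra.IsPushout Γ(Y, U) Γ(T, ⊤) Γ(X, V) Γ(P, V') := h3
  have hT : FlatFibre Γ(Y, U) Γ(X, V) Γ(T, ⊤) (hV.primeIdealOf ⟨x, hx⟩).asIdeal := by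
    refine FlatFibre.of_model (Algebra.linearMap Γ(X, V) Γ(P, V')) (IsBaseChange.linearMap _ _)
      fun Q hQp hQm => ?_
    obtain ⟨⟨y, hy⟩, rfl⟩ := hV'.isoSpec.hom.surjective Q
    change (hV'.primeIdealOf ⟨y, hy⟩).asIdeal.comap (algebraMap Γ(T, ⊤) Γ(P, V')) = _ at hQm
    change (hV'.primeIdealOf ⟨y, hy⟩).asIdeal.comap (algebraMap Γ(X, V) Γ(P, V')) = _ at hQp
    refine (flat_stalkMap_iff (f := snd) ⊤ (isAffineOpen_top T) V' hV' le_top hy).mp (h y ?_ ?_)
    · have e : hV.primeIdealOf ⟨fst y, hy⟩ = hV.primeIdealOf ⟨x, hx⟩ := by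
        rw [← IsAffineOpen.comap_primeIdealOf_appLE V hV V' hV' (f := fst) le_rfl hy]
        exact PrimeSpectrum.ext hQp
      exact congrArg Subtype.val (hV.isoSpec.hom.homeomorph.injective e)
    · refine eq_closedPoint_of_primeIdealOf ?_
      rw [← IsAffineOpen.comap_primeIdealOf_appLE ⊤ (isAffineOpen_top T) V' hV' (f := snd) le_top hy]
      exact hQm
  letI : Algebra Γ(T, ⊤) W := εT.toRingHom.toAlgebra
  haveI : IsScalarTower Γ(Y, U) Γ(T, ⊤) W :=
    IsScalarTower.of_algebraMap_eq fun r => (chartMap_appLE hU W (algebraMap Γ(Y, U) W) r).symm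
  haveI : IsLocalHom (algebraMap Γ(T, ⊤) W) := ⟨fun a ha => (isUnit_map_iff εT a).mp ha⟩
  exact hT.map

omit [IsLocalRing W] in
include hU in
theorem chartMap_eq {y : Y} (hy : y ∈ U) (φ : (Y.presheaf.stalk y : Type u) →+* W) :
    Spec.map (CommRingCat.ofHom φ) ≫ Y.fromSpecStalk y =
      chartMap hU W (φ.comp (Y.presheaf.germ U y hy).hom) := by
  rw [← hU.fromSpecStalk_eq_fromSpecStalk hy, IsAffineOpen.fromSpecStalk, chartMap,
    ← Spec.map_comp_assoc]
  rfl

end Spec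

end DvrFlatLib
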