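import Mathlib
import Groth.Prelude.Def_EGA43
import Groth.Agent.DvrFlatLib.Chart
import Groth.Agent.S9501
import Groth.Agent.RichLib.FlatLociOpen

/-!
# Flatness over a discrete valuation ring at a point with reduced fibre
-/

set_option autoImplicit false
universe u

open CategoryTheory CategoryTheory.Limits AlgebraicGeometry FlatLib IsLocalRing

namespace DvrFlatLib

/-- An element with radical principal ideal, not nilpotent at the minimal primes over it, is regular. -/
theorem eq_zero_of_mul_eq_zero {S : Type u} [CommRing S] [IsLocalRing S] [IsNoetherianRing S] {t : S}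
    (ht : t ∈ maximalIdeal S) (hrad : (Ideal.span {t}).IsRadical)
    (hmin : ∀ P ∈ (Ideal.span {t}).minimalPrimes, ∀ s ∉ P, ∀ n : ℕ, t ^ n * s ≠ 0) {a : S}
    (ha : t * a = 0) : a = 0 := by
  let T : Ideal S := ⨆ n : ℕ, LinearMap.ker (LinearMap.mulLeft S (t ^ n))
  have hdir : Monotone fun n : ℕ ↦ LinearMap.ker (LinearMap.mulLeft S (t ^ n)) := fun n m hnm b hb ↦ by
    obtain ⟨k, rfl⟩ := Nat.exists_eq_add_of_le hnm
    rw [LinearMap.mem_ker, LinearMap.mulLeft_apply] at hb ⊢
    rw [pow_add, mul_comm (t ^ n), mul_assoc, hb, mul_zero]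
  have hmem : ∀ b, b ∈ T ↔ ∃ n : ℕ, t ^ n * b = 0 := fun b ↦ by
    rw [Submodule.mem_iSup_of_directed _ hdir.directed_le]
    simp
  have hle : T ≤ Ideal.span {t} • T := fun b hb ↦ by
    obtain ⟨n, hn⟩ := (hmem b).mp hb
    have hb' : b ∈ (Ideal.span {t}).radical := by
      rw [← Ideal.sInf_minimalPrimes, Submodule.mem_sInf]
      exact fun P hP ↦ by_contra fun hbP ↦ hmin P hP b hbP n hn
    rw [hrad.radical, Ideal.mem_span_singleton'] at hb'
    obtain ⟨c, rfl⟩ := hb'
    have hc : c ∈ T := (hmem c).mpr ⟨n + 1, by rw [pow_succ, mul_assoc, mul_comm t c]; exact hn⟩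
    rw [mul_comm]
    exact Submodule.smul_mem_smul (Ideal.mem_span_singleton_self t) hc
  have hT : T = ⊥ := Submodule.eq_bot_of_le_smul_of_le_jacobson_bot _ _ (IsNoetherian.noetherian T) hle
    (by rw [IsLocalRing.jacobson_eq_maximalIdeal _ bot_ne_top, Ideal.span_singleton_le_iff_mem]; exact ht)
  have : a ∈ T := (hmem a).mpr ⟨1, by rwa [pow_one]⟩
  rwa [hT] at this

/-- EGA IV 14.4.11: over a discrete valuation ring, openness at the generic points of the closed fibre
and reducedness of the fibre give flatness. -/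
theorem flat_stalkMap_of_openAt {A : Type u} [CommRing A] [IsDomain A] [IsDiscreteValuationRing A]
    {X : Scheme.{u}} (f : X ⟶ Spec (CommRingCat.of A)) [LocallyOfFiniteType f] (x : X)
    (hx : f x = closedPoint A)
    (h : ∀ z : ↥(f.fiber (f x)), f.asFiber x ∈ closure {z} →
      (∀ z' : ↥(f.fiber (f x)), z ∈ closure {z'} → z' = z) →
      EGA43.IsOpenAt f ((f.fiberι (f x)) z))
    (hred : _root_.IsReduced ((f.fiber (f x)).presheaf.stalk (f.asFiber x))) :
    (f.stalkMap x).hom.Flat := by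
  classical
  haveI : IsLocallyNoetherian X := LocallyOfFiniteType.isLocallyNoetherian f
  let Y := Spec (CommRingCat.of A)
  let R := Γ(Y, ⊤)
  let εA : R ≃+* A := (Scheme.ΓSpecIso (CommRingCat.of A)).commRingCatIsoToRingEquiv
  haveI : IsLocalRing R := εA.symm.isLocalRing
  haveI : IsDomain R := MulEquiv.isDomain _ εA.toMulEquiv
  haveI : IsPrincipalIdealRing R := IsPrincipalIdealRing.of_surjective εA.symm εA.symm.surjective
  obtain ⟨ϖ, hϖ⟩ := IsDiscreteValuationRing.exists_irreducible A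
  let t : R := εA.symm ϖ
  have hmax : maximalIdeal R = Ideal.span {t} := by
    have h1 : maximalIdeal A = Ideal.span {ϖ} := hϖ.maximalIdeal_eq
    ext r
    rw [IsLocalRing.mem_maximalIdeal, mem_nonunits_iff, ← isUnit_map_iff εA, ← mem_nonunits_iff,
      ← IsLocalRing.mem_maximalIdeal, h1, Ideal.mem_span_singleton, Ideal.mem_span_singleton]
    constructor
    · rintro ⟨c, hc⟩
      exact ⟨εA.symm c, εA.injective (by simp [t, hc])⟩
    · rintro ⟨c, rfl⟩
      exact ⟨εA c, by simp [t]⟩
  obtain ⟨V, hV, hxV, -⟩ := exists_isAffineOpen_mem_and_subset (x := x) (U := ⊤) trivial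
  have hle : V ≤ f ⁻¹ᵁ (⊤ : Y.Opens) := le_top
  haveI : IsNoetherianRing Γ(X, V) := IsLocallyNoetherian.component_noetherian ⟨V, hV⟩
  letI : Algebra R Γ(X, V) := (f.appLE ⊤ V hle).hom.toAlgebra
  let τ := algebraMap R Γ(X, V) t
  have hfib : ∀ (w : X) (hw : w ∈ V), τ ∈ (hV.primeIdealOf ⟨w, hw⟩).asIdeal ↔ f w = closedPoint A := by
    intro w hw
    have e := congrArg PrimeSpectrum.asIdeal
      (IsAffineOpen.comap_primeIdealOf_appLE ⊤ (isAffineOpen_top Y) V hV (f := f) hle hw)
    have e' : τ ∈ (hV.primeIdealOf ⟨w, hw⟩).asIdeal ↔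
        t ∈ ((isAffineOpen_top Y).primeIdealOf ⟨f w, trivial⟩).asIdeal := by rw [← e]; rfl
    rw [e']
    constructor
    · intro ht
      refine eq_closedPoint_of_primeIdealOf (le_antisymm (le_maximalIdeal Ideal.IsPrime.ne_top') ?_)
      rw [hmax]
      exact (Ideal.span_singleton_le_iff_mem _).mpr ht
    · intro hw'
      have hgerm := (isAffineOpen_top Y).isLocalization_stalk ⟨f w, trivial⟩
      by_contra ht
      have hc : IsClosed ({closedPoint A} : Set Y) :=
        (PrimeSpectrum.isClosed_singleton_iff_isMaximal _).mpr (maximalIdeal.isMaximal A)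
      have hc' : IsClosed ({(isAffineOpen_top Y).primeIdealOf ⟨f w, trivial⟩} : Set _) := by
        have h1 : IsClosed ({⟨f w, trivial⟩} : Set ↥(⊤ : Y.Opens)) := by
          have := hc.preimage (continuous_subtype_val (p := fun y : Y ↦ y ∈ (⊤ : Y.Opens)))
          convert this using 1
          ext z
          simp only [Set.mem_singleton_iff, Set.mem_preimage, Subtype.ext_iff, hw']
          rfl
        have h2 := (isAffineOpen_top Y).isoSpec.hom.homeomorph.isClosedMap _ h1
        erw [Set.image_singleton] at h2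
        exact h2
      exact ht (IsLocalRing.eq_maximalIdeal ((PrimeSpectrum.isClosed_singleton_iff_isMaximal _).mp hc') ▸
        hmax ▸ Ideal.mem_span_singleton_self t)
  letI : Algebra Γ(X, V) (X.presheaf.stalk x) := (X.presheaf.germ V x hxV).hom.toAlgebra
  haveI hloc : IsLocalization.AtPrime (X.presheaf.stalk x) (hV.primeIdealOf ⟨x, hxV⟩).asIdeal :=
    hV.isLocalization_stalk ⟨x, hxV⟩
  let S := X.presheaf.stalk x
  let q := (hV.primeIdealOf ⟨x, hxV⟩).asIdeal
  haveI : IsNoetherianRing S := IsLocalization.isNoetherianRing q.primeCompl _ inferInstance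
  letI : Algebra R S := ((algebraMap Γ(X, V) S).comp (algebraMap R Γ(X, V))).toAlgebra
  haveI : IsScalarTower R Γ(X, V) S := IsScalarTower.of_algebraMap_eq fun _ ↦ rfl
  rw [flat_stalkMap_iff ⊤ (isAffineOpen_top Y) V hV hle hxV]
  suffices hflat : Module.Flat R S from
    flat_of_le q.primeCompl (Algebra.linearMap Γ(X, V) S) q.primeCompl
      (LocalizedModule.mkLinearMap _ Γ(X, V)) le_rfl hflat
  let T := algebraMap Γ(X, V) S τ
  have hTm : T ∈ maximalIdeal S :=
    (IsLocalization.AtPrime.to_map_mem_maximal_iff S q τ).mpr ((hfib x hxV).mpr hx)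
  have hrad : (Ideal.span {T}).IsRadical := by
    have hz := Groth.Agent.S9501.result f (f x) (f.asFiber x)
    let φ := ((f.fiberι (f x)).stalkMap (f.asFiber x)).hom
    have key : ∀ (w : X) (hwV : w ∈ V), w = x →
        ∀ ψ : X.presheaf.stalk w →+* (f.fiber (f x)).presheaf.stalk (f.asFiber x),
        RingHom.ker ψ = Ideal.map (f.stalkMap w).hom (maximalIdeal (Y.presheaf.stalk (f w))) →
        (Ideal.span {T}).IsRadical := by
      rintro w hwV rfl ψ hψ
      have e : RingHom.ker ψ = Ideal.span {T} := by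
        rw [hψ]
        letI : Algebra R (Y.presheaf.stalk (f w)) := (Y.presheaf.germ ⊤ (f w) trivial).hom.toAlgebra
        haveI : IsLocalization.AtPrime (Y.presheaf.stalk (f w))
            ((isAffineOpen_top Y).primeIdealOf ⟨f w, trivial⟩).asIdeal :=
          (isAffineOpen_top Y).isLocalization_stalk ⟨f w, trivial⟩
        have hp : ((isAffineOpen_top Y).primeIdealOf ⟨f w, trivial⟩).asIdeal = Ideal.span {t} := by
          refine le_antisymm (hmax ▸ le_maximalIdeal Ideal.IsPrime.ne_top') ?_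
          rw [Ideal.span_singleton_le_iff_mem,
            ← congrArg PrimeSpectrum.asIdeal
              (IsAffineOpen.comap_primeIdealOf_appLE ⊤ (isAffineOpen_top Y) V hV (f := f) hle hwV)]
          exact (hfib w hwV).mpr hx
        rw [← IsLocalization.AtPrime.map_eq_maximalIdeal
          ((isAffineOpen_top Y).primeIdealOf ⟨f w, trivial⟩).asIdeal (Y.presheaf.stalk (f w)),
          hp, Ideal.map_map, Ideal.map_span, Set.image_singleton]
        congr 2
        show f.stalkMap w (Y.presheaf.germ ⊤ (f w) trivial t) = X.presheaf.germ V w hwV (f.appLE ⊤ V hle t)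
        rw [Scheme.Hom.germ_stalkMap_apply]
        exact (TopCat.Presheaf.germ_res_apply X.presheaf _ _ _ _).symm
      rw [← e]
      exact fun a ⟨n, hn⟩ ↦ RingHom.mem_ker.mpr
        (hred.eq_zero _ ⟨n, by rw [← map_pow]; exact RingHom.mem_ker.mp hn⟩)
    exact key _ (by rw [f.fiberι_asFiber]; exact hxV) (f.fiberι_asFiber x) φ hz.2
  have hmin : ∀ P ∈ (Ideal.span {T}).minimalPrimes, ∀ s ∉ P, ∀ n : ℕ, T ^ n * s ≠ 0 := by
    intro P hP s hs n hn
    haveI := hP.1.1
    obtain ⟨b, u, rfl⟩ := IsLocalization.exists_mk'_eq q.primeCompl s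
    let P₀ : PrimeSpectrum Γ(X, V) := ⟨P.comap (algebraMap Γ(X, V) S), inferInstance⟩
    have hP₀q : P₀.asIdeal ≤ q := fun c hc ↦
      (IsLocalization.AtPrime.to_map_mem_maximal_iff S q c).mp (le_maximalIdeal hP.1.1.ne_top hc)
    have hb : b ∉ P₀.asIdeal := fun hb ↦ hs (IsLocalization.mk'_mem_iff.mpr hb)
    have h0 : algebraMap Γ(X, V) S (τ ^ n * b) = 0 := by
      have h1 := congrArg (· * algebraMap Γ(X, V) S u) hn
      simpa [mul_assoc, IsLocalization.mk'_spec, T] using h1
    obtain ⟨v, hv⟩ := (IsLocalization.map_eq_zero_iff q.primeCompl S _).mp h0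
    let b' : Γ(X, V) := v * b
    have hb' : b' ∉ P₀.asIdeal := fun h1 ↦
      (P₀.isPrime.mem_or_mem h1).elim (fun h2 ↦ v.2 (hP₀q h2)) hb
    have hb'0 : τ ^ n * b' = 0 := by rw [← hv]; ring
    have hτ : τ ∈ P₀.asIdeal := hP.1.2 (Ideal.mem_span_singleton_self T)
    obtain ⟨⟨z, hzV⟩, hz⟩ := hV.isoSpec.hom.surjective P₀
    change hV.primeIdealOf ⟨z, hzV⟩ = P₀ at hz
    have hfz : f z = f x := ((hfib z hzV).mp (hz ▸ hτ)).trans hx.symm
    obtain ⟨z₀, hz₀⟩ : z ∈ Set.range (f.fiberι (f x)) := by rw [f.range_fiberι]; exact hfz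
    have hspec : ∀ (w w' : X) (hw : w ∈ V) (hw' : w' ∈ V),
        w ⤳ w' ↔ (hV.primeIdealOf ⟨w, hw⟩).asIdeal ≤ (hV.primeIdealOf ⟨w', hw'⟩).asIdeal := fun w w' hw hw' ↦ by
      exact (subtype_specializes_iff (⟨w, hw⟩ : V) ⟨w', hw'⟩).symm.trans
        ((hV.isoSpec.hom.homeomorph.isInducing.specializes_iff).symm.trans (PrimeSpectrum.le_iff_specializes _ _).symm)
    have hcl : f.asFiber x ∈ closure {z₀} := by
      rw [← specializes_iff_mem_closure, ← (f.fiberι (f x)).isEmbedding.isInducing.specializes_iff, hz₀,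
        f.fiberι_asFiber, hspec z x hzV hxV, hz]
      exact hP₀q
    have hgen : ∀ z' : ↥(f.fiber (f x)), z₀ ∈ closure {z'} → z' = z₀ := by
      intro z' hz'
      rw [← specializes_iff_mem_closure, ← (f.fiberι (f x)).isEmbedding.isInducing.specializes_iff, hz₀] at hz'
      apply (f.fiberι (f x)).isEmbedding.injective
      rw [hz₀]
      let w := f.fiberι (f x) z'
      have hwV : w ∈ V := hz'.mem_open V.2 hzV
      have hfw : f w = f x := by
        have : w ∈ Set.range (f.fiberι (f x)) := ⟨z', rfl⟩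
        rw [f.range_fiberι] at this
        exact this
      have hle' := (hspec w z hwV hzV).mp hz'
      rw [hz] at hle'
      let P' := (hV.primeIdealOf ⟨w, hwV⟩).asIdeal
      have hdisj : Disjoint (q.primeCompl : Set Γ(X, V)) (P' : Set Γ(X, V)) :=
        Set.disjoint_left.mpr fun c hc hc' ↦ hc (hP₀q (hle' hc'))
      haveI := IsLocalization.isPrime_of_isPrime_disjoint q.primeCompl S P' inferInstance hdisj
      have hsub : Ideal.map (algebraMap Γ(X, V) S) P' ≤ P := Ideal.map_le_iff_le_comap.mpr hle'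
      have heq : P ≤ Ideal.map (algebraMap Γ(X, V) S) P' := hP.2 ⟨inferInstance,
        (Ideal.span_singleton_le_iff_mem _).mpr (Ideal.mem_map_of_mem _ ((hfib w hwV).mpr (hfw.trans hx)))⟩ hsub
      have h2 : P' = P₀.asIdeal := by
        refine le_antisymm hle' ?_
        rw [← IsLocalization.comap_map_of_isPrime_disjoint q.primeCompl S (inferInstance : P'.IsPrime) hdisj]
        exact Ideal.comap_mono heq
      have h3 : hV.primeIdealOf ⟨w, hwV⟩ = hV.primeIdealOf ⟨z, hzV⟩ := (PrimeSpectrum.ext h2).trans hz.symm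
      exact congrArg Subtype.val (hV.isoSpec.hom.homeomorph.injective h3)
    have hopen := h z₀ hcl hgen
    rw [hz₀] at hopen
    let W : X.Opens := X.basicOpen b'
    have hzW : z ∈ W := by
      by_contra hzW
      refine hb' ?_
      rw [← hz]
      by_contra h1
      exact hzW ((RichLib.FlatLoci.mem_basicOpen_iff_primeIdealOf hV b' ⟨z, hzV⟩).mpr h1)
    have himg := hopen W (W.2.mem_nhds hzW)
    have hη : (⟨⊥, Ideal.isPrime_bot⟩ : PrimeSpectrum A) ∈ f '' W := by
      obtain ⟨O, hO, hOo, hcO⟩ := mem_nhds_iff.mp himg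
      have hcl' : closedPoint A ∈ O := by rwa [hfz, hx] at hcO
      exact hO ((IsLocalRing.closedPoint_mem_iff (U := ⟨O, hOo⟩)).mp hcl' ▸ trivial : _ ∈ (⟨O, hOo⟩ : TopologicalSpace.Opens (PrimeSpectrum A)))
    obtain ⟨w, hwW, hfw⟩ := hη
    have hwV : w ∈ V := X.basicOpen_le b' hwW
    have hwb : b' ∉ (hV.primeIdealOf ⟨w, hwV⟩).asIdeal :=
      (RichLib.FlatLoci.mem_basicOpen_iff_primeIdealOf hV b' ⟨w, hwV⟩).mp hwW
    have hwτ : τ ∉ (hV.primeIdealOf ⟨w, hwV⟩).asIdeal := fun h1 ↦ by
      have h2 := congrArg PrimeSpectrum.asIdeal (((hfib w hwV).mp h1).symm.trans hfw)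
      exact IsDiscreteValuationRing.not_a_field A h2
    have h3 : τ ^ n * b' ∈ (hV.primeIdealOf ⟨w, hwV⟩).asIdeal := hb'0 ▸ Ideal.zero_mem _
    exact ((PrimeSpectrum.isPrime _).mem_or_mem h3).elim
      (fun h4 ↦ hwτ ((PrimeSpectrum.isPrime _).mem_of_pow_mem n h4)) hwb
  rw [Module.Flat.flat_iff_torsion_eq_bot_of_isBezout, Submodule.eq_bot_iff]
  intro a ha
  obtain ⟨⟨r, hr⟩, hra⟩ := ha
  have hr0 : r ≠ 0 := nonZeroDivisors.ne_zero hr
  have hεne : εA r ≠ 0 := fun h0 ↦ hr0 (εA.injective (h0.trans (map_zero εA).symm))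
  obtain ⟨n, v, hv⟩ := IsDiscreteValuationRing.eq_unit_mul_pow_irreducible hεne hϖ
  have hrn : r = εA.symm v * t ^ n := εA.injective (by simp [t, hv])
  have h0 : T ^ n * a = 0 := by
    have h1 : algebraMap R S r * a = 0 := by rw [← Algebra.smul_def]; exact hra
    rw [hrn, map_mul, map_pow, mul_assoc] at h1
    exact ((v.isUnit.map εA.symm).map (algebraMap R S)).mul_right_eq_zero.mp h1
  clear hra hrn hv
  induction n generalizing a with
  | zero => simpa using h0
  | succ n ih =>
    refine ih a (eq_zero_of_mul_eq_zero hTm hrad hmin ?_)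
    rw [← mul_assoc, ← pow_succ']
    exact h0

end DvrFlatLib
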