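import Mathlib
import Groth.Prelude.Def_FDesc
import Groth.Agent.DvrFlatLib.Uniformizer
import Groth.Agent.UOpenLib.Basic
import Groth.Agent.S2562

/-!
# Universal openness and geometric reducedness give flatness over a reduced base
-/

set_option autoImplicit false
universe u

open CategoryTheory CategoryTheory.Limits AlgebraicGeometry IsLocalRing

namespace DvrFlatLib

/-- Geometric reducedness of the fibre at a point gives reducedness of the fibre of a base change. -/
theorem isReduced_fiber_baseChange {X Y : Scheme.{u}} (f : X ⟶ Y) (x : X)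
    (hred : FBase.IsGeomReducedAt (f.fiberToSpecResidueField (f x)) (f.asFiber x))
    {P Y' : Scheme.{u}} {p : P ⟶ X} {b : P ⟶ Y'} {g : Y' ⟶ Y} (sq : IsPullback p b f g)
    (x' : P) (hx' : p x' = x) :
    _root_.IsReduced ((b.fiber (b x')).presheaf.stalk (b.asFiber x')) := by
  let y' := b x'
  have hy : g y' = f x := by
    show g (b x') = f x
    rw [← hx', ← Scheme.Hom.comp_apply, ← sq.w, Scheme.Hom.comp_apply]
  have key : ∀ (y : Y), y = f x → ∀ a : ↥(f.fiber y), f.fiberι y a = x →
      FBase.IsGeomReducedAt (f.fiberToSpecResidueField y) a := by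
    rintro _ rfl a ha
    obtain rfl : a = f.asFiber x := (f.fiberι (f x)).isEmbedding.injective (by rw [ha, f.fiberι_asFiber])
    exact hred
  have h := isPullback_fiberToSpecResidueField_of_isPullback sq y'
  let π : b.fiber y' ⟶ f.fiber (g y') :=
    pullback.map _ _ _ _ p (Spec.map (g.residueFieldMap y')) g sq.w.symm (by simp)
  have hπ : π ≫ f.fiberι (g y') = b.fiberι y' ≫ p := pullback.lift_fst _ _ _
  let a := π (b.asFiber x')
  have ha : f.fiberι (g y') a = x := by
    show f.fiberι (g y') (π (b.asFiber x')) = x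
    rw [← Scheme.Hom.comp_apply, hπ, Scheme.Hom.comp_apply, b.fiberι_asFiber, hx']
  letI : Algebra (IsLocalRing.ResidueField ↑(Y.presheaf.stalk (g y'))) ↑(Y'.residueField y') :=
    (g.residueFieldMap y').hom.toAlgebra
  let e : b.fiber y' ≅ FBase.bc (f.fiberToSpecResidueField (g y')) (Y'.residueField y') := h.isoPullback
  have he : FBase.bcπ (f.fiberToSpecResidueField (g y')) _ (e.hom (b.asFiber x')) = a := by
    exact congrArg (fun φ : b.fiber y' ⟶ f.fiber (g y') ↦ φ (b.asFiber x')) h.isoPullback_hom_fst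
  haveI := key _ hy a ha _ _ he
  exact isReduced_of_injective (inv (e.hom.stalkMap (b.asFiber x'))).hom
    (ConcreteCategory.bijective_of_isIso (inv (e.hom.stalkMap (b.asFiber x')))).1

/-- EGA IV 15.2.2 over a discrete valuation ring: the hypotheses at a point after base change. -/
theorem flat_stalkMap_baseChange_dvr {X Y : Scheme.{u}} (f : X ⟶ Y) [LocallyOfFiniteType f] (x : X)
    (hopen : ∀ z : ↥(f.fiber (f x)), f.asFiber x ∈ closure {z} →
      (∀ z' : ↥(f.fiber (f x)), z ∈ closure {z'} → z' = z) →
      EGA43.IsUnivOpenAt f ((f.fiberι (f x)) z))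
    (hred : FBase.IsGeomReducedAt (f.fiberToSpecResidueField (f x)) (f.asFiber x))
    {A : Type u} [CommRing A] [IsDomain A] [IsDiscreteValuationRing A] {P : Scheme.{u}}
    {p : P ⟶ X} {b : P ⟶ Spec (CommRingCat.of A)} {g : Spec (CommRingCat.of A) ⟶ Y}
    (sq : IsPullback p b f g) (x' : P) (hx' : p x' = x) (hb : b x' = closedPoint A) :
    (b.stalkMap x').hom.Flat := by
  haveI : LocallyOfFiniteType b := MorphismProperty.of_isPullback (P := @LocallyOfFiniteType) sq inferInstance
  let y' := b x'
  have hy : g y' = f x := by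
    show g (b x') = f x
    rw [← hx', ← Scheme.Hom.comp_apply, ← sq.w, Scheme.Hom.comp_apply]
  -- the hypotheses, transported to the fibre over `g y'`
  have key : ∀ (y : Y), y = f x → ∀ a : ↥(f.fiber y), f.fiberι y a = x →
      FBase.IsGeomReducedAt (f.fiberToSpecResidueField y) a ∧
      (∀ z : ↥(f.fiber y), a ∈ closure {z} → (∀ z' : ↥(f.fiber y), z ∈ closure {z'} → z' = z) →
        EGA43.IsUnivOpenAt f (f.fiberι y z)) := by
    rintro _ rfl a ha
    obtain rfl : a = f.asFiber x := (f.fiberι (f x)).isEmbedding.injective (by rw [ha, f.fiberι_asFiber])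
    exact ⟨hred, hopen⟩
  have h := isPullback_fiberToSpecResidueField_of_isPullback sq y'
  let π : b.fiber y' ⟶ f.fiber (g y') :=
    pullback.map _ _ _ _ p (Spec.map (g.residueFieldMap y')) g sq.w.symm (by simp)
  have hπ : π ≫ f.fiberι (g y') = b.fiberι y' ≫ p := pullback.lift_fst _ _ _
  let a := π (b.asFiber x')
  have ha : f.fiberι (g y') a = x := by
    show f.fiberι (g y') (π (b.asFiber x')) = x
    rw [← Scheme.Hom.comp_apply, hπ, Scheme.Hom.comp_apply, b.fiberι_asFiber, hx']
  obtain ⟨hred', hopen'⟩ := key _ hy a ha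
  refine flat_stalkMap_of_openAt b x' hb (fun z hz hzmin ↦ ?_) ?_
  · have hflat : Flat (Spec.map (g.residueFieldMap y')) := by
      rw [HasRingHomProperty.Spec_iff (P := @Flat)]
      letI := (g.residueFieldMap y').hom.toAlgebra
      exact RingHom.flat_algebraMap_iff.mpr inferInstance
    haveI : Flat π := MorphismProperty.of_isPullback (P := @Flat) h.flip hflat
    have h1 : a ∈ closure {π z} := by
      rw [← specializes_iff_mem_closure]
      exact (specializes_iff_mem_closure.mpr hz).map π.continuous
    have h2 : ∀ z' : ↥(f.fiber (g y')), π z ∈ closure {z'} → z' = π z := by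
      intro z' hz'
      obtain ⟨w, hw, rfl⟩ := Flat.generalizingMap π (specializes_iff_mem_closure.mpr hz')
      rw [hzmin w (specializes_iff_mem_closure.mp hw)]
    exact UOpenLib.IsUnivOpenAt.isOpenAt (hopen' (π z) h1 h2) sq (b.fiberι y' z)
      (show p (b.fiberι y' z) = f.fiberι (g y') (π z) by rw [← Scheme.Hom.comp_apply, ← hπ, Scheme.Hom.comp_apply])
  · exact isReduced_fiber_baseChange f x hred sq x' hx'

/-- EGA IV 15.2.2. -/
theorem flat_stalkMap_of_univOpen {X Y : Scheme.{u}} [IsLocallyNoetherian Y]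
    (f : X ⟶ Y) [LocallyOfFiniteType f] (x : X)
    (hopen : ∀ z : ↥(f.fiber (f x)), f.asFiber x ∈ closure {z} →
      (∀ z' : ↥(f.fiber (f x)), z ∈ closure {z'} → z' = z) →
      EGA43.IsUnivOpenAt f ((f.fiberι (f x)) z))
    (hred : FBase.IsGeomReducedAt (f.fiberToSpecResidueField (f x)) (f.asFiber x))
    (hy : _root_.IsReduced (Y.presheaf.stalk (f x))) :
    (f.stalkMap x).hom.Flat := by
  haveI := hy
  haveI : LocallyOfFinitePresentation f := inferInstance
  refine (Groth.Agent.S2562.result f x).mpr ?_
  intro A' _ _ _ φ _ x' hx' hb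
  exact flat_stalkMap_baseChange_dvr f x hopen hred (IsPullback.of_hasPullback f _) x' hx' hb

end DvrFlatLib
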