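import Mathlib
import Groth.Agent.DvrFlatLib.Reduced
import Groth.Agent.DvrFlatLib.UnivOpen
import Groth.Agent.S9501

/-!
# Reducedness of the source of a flat morphism with geometrically reduced fibre over a reduced base
-/

set_option autoImplicit false
universe u

open CategoryTheory CategoryTheory.Limits AlgebraicGeometry IsLocalRing TensorProduct

attribute [local instance] Algebra.TensorProduct.rightAlgebra

namespace DvrFlatLib

/-- The kernel of the map to the stalk of the fibre is the ideal of the base point. -/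
theorem isReduced_stalk_quotient {X Y : Scheme.{u}} (f : X ⟶ Y) (x : X)
    [_root_.IsReduced ((f.fiber (f x)).presheaf.stalk (f.asFiber x))] :
    _root_.IsReduced (X.presheaf.stalk x ⧸
      (maximalIdeal (Y.presheaf.stalk (f x))).map (f.stalkMap x).hom) := by
  have key : ∀ (w : X), w = x →
      ∀ ψ : X.presheaf.stalk w →+* (f.fiber (f x)).presheaf.stalk (f.asFiber x),
      RingHom.ker ψ = (maximalIdeal (Y.presheaf.stalk (f w))).map (f.stalkMap w).hom →
      _root_.IsReduced (X.presheaf.stalk x ⧸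
        (maximalIdeal (Y.presheaf.stalk (f x))).map (f.stalkMap x).hom) := by
    rintro w hw ψ hψ
    subst hw
    refine (Ideal.isRadical_iff_quotient_reduced _).mp ?_
    rw [← hψ]
    exact fun a ⟨n, hn⟩ ↦ RingHom.mem_ker.mpr
      (IsReduced.eq_zero _ ⟨n, by rw [← map_pow]; exact RingHom.mem_ker.mp hn⟩)
  exact key _ (f.fiberι_asFiber x) _ (Groth.Agent.S9501.result f (f x) (f.asFiber x)).2

/-- Over a discrete valuation ring, flatness and a reduced fibre give a reduced local ring. -/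
theorem isReduced_stalk_dvr {A : Type u} [CommRing A] [IsDomain A] [IsDiscreteValuationRing A]
    {P : Scheme.{u}} (b : P ⟶ Spec (CommRingCat.of A)) [LocallyOfFiniteType b] (x : P)
    [_root_.IsReduced ((b.fiber (b x)).presheaf.stalk (b.asFiber x))]
    (hflat : (b.stalkMap x).hom.Flat) : _root_.IsReduced (P.presheaf.stalk x) := by
  haveI : IsLocallyNoetherian P := LocallyOfFiniteType.isLocallyNoetherian b
  let Y := Spec (CommRingCat.of A)
  let εA : Γ(Y, ⊤) ≃+* A := (Scheme.ΓSpecIso (CommRingCat.of A)).commRingCatIsoToRingEquiv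
  haveI : IsDomain Γ(Y, ⊤) := MulEquiv.isDomain _ εA.toMulEquiv
  haveI : IsPrincipalIdealRing Γ(Y, ⊤) := IsPrincipalIdealRing.of_surjective εA.symm εA.symm.surjective
  letI : Algebra Γ(Y, ⊤) (Y.presheaf.stalk (b x)) := (Y.presheaf.germ ⊤ (b x) trivial).hom.toAlgebra
  haveI : IsLocalization.AtPrime (Y.presheaf.stalk (b x))
      ((isAffineOpen_top Y).primeIdealOf ⟨b x, trivial⟩).asIdeal :=
    (isAffineOpen_top Y).isLocalization_stalk ⟨b x, trivial⟩
  haveI : IsDomain (Y.presheaf.stalk (b x)) := IsLocalization.isDomain_of_le_nonZeroDivisors _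
    ((isAffineOpen_top Y).primeIdealOf ⟨b x, trivial⟩).asIdeal.primeCompl_le_nonZeroDivisors
  haveI : IsPrincipalIdealRing (Y.presheaf.stalk (b x)) := ⟨fun J ↦ by
    obtain ⟨a, ha⟩ := IsPrincipalIdealRing.principal (J.comap (algebraMap Γ(Y, ⊤) (Y.presheaf.stalk (b x))))
    refine ⟨algebraMap Γ(Y, ⊤) _ a, ?_⟩
    rw [← IsLocalization.map_comap ((isAffineOpen_top Y).primeIdealOf ⟨b x, trivial⟩).asIdeal.primeCompl
      (Y.presheaf.stalk (b x)) J]
    rw [show Ideal.under Γ(Y, ⊤) J = _ from ha]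
    erw [Ideal.map_span, Set.image_singleton]⟩
  letI : Algebra (Y.presheaf.stalk (b x)) (P.presheaf.stalk x) := (b.stalkMap x).hom.toAlgebra
  haveI : Module.Flat (Y.presheaf.stalk (b x)) (P.presheaf.stalk x) := hflat
  haveI : IsLocalHom (algebraMap (Y.presheaf.stalk (b x)) (P.presheaf.stalk x)) := b.toLRSHom.prop x
  haveI : _root_.IsReduced (P.presheaf.stalk x ⧸
      (maximalIdeal (Y.presheaf.stalk (b x))).map (algebraMap (Y.presheaf.stalk (b x)) (P.presheaf.stalk x))) :=
    isReduced_stalk_quotient b x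
  exact isReduced_of_flat_of_quotient (A := Y.presheaf.stalk (b x))

/-- On a chart of a fibre product, nilpotents die at the points with reduced local rings. -/
theorem exists_mul_eq_zero_chart {X Y : Scheme.{u}} (f : X ⟶ Y) {U : Y.Opens} (hU : IsAffineOpen U)
    {V : X.Opens} (hV : IsAffineOpen V) (hVU : V ≤ f ⁻¹ᵁ U) {x : X} (hx : x ∈ V)
    (W : Type u) [CommRing W] [IsLocalRing W] [Algebra Γ(Y, U) W]
    (h : ∀ x' : ↥(pullback f (chartMap hU W (algebraMap Γ(Y, U) W))),
      pullback.fst f (chartMap hU W (algebraMap Γ(Y, U) W)) x' = x →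
      pullback.snd f (chartMap hU W (algebraMap Γ(Y, U) W)) x' = closedPoint W →
      _root_.IsReduced ((pullback f (chartMap hU W (algebraMap Γ(Y, U) W))).presheaf.stalk x')) :
    letI := (f.appLE U V hVU).hom.toAlgebra
    ∀ Q : PrimeSpectrum (BCA Γ(Y, U) W Γ(X, V)),
      Q.asIdeal.comap (algebraMap Γ(X, V) (BCA Γ(Y, U) W Γ(X, V))) = (hV.primeIdealOf ⟨x, hx⟩).asIdeal →
      Q.asIdeal.comap (algebraMap W (BCA Γ(Y, U) W Γ(X, V))) = maximalIdeal W →
      ∀ n : BCA Γ(Y, U) W Γ(X, V), IsNilpotent n → ∃ c ∉ Q.asIdeal, c * n = 0 := by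
  letI := (f.appLE U V hVU).hom.toAlgebra
  intro Q hQp hQm n hn
  let T := Spec (CommRingCat.of W)
  let g : T ⟶ Y := chartMap hU W (algebraMap Γ(Y, U) W)
  have hg : (⊤ : T.Opens) ≤ g ⁻¹ᵁ U := chartMap_preimage hU W _
  let εT : Γ(T, ⊤) ≃+* W := (Scheme.ΓSpecIso (CommRingCat.of W)).commRingCatIsoToRingEquiv
  haveI : IsLocalRing Γ(T, ⊤) := εT.symm.isLocalRing
  let P := pullback f g
  let fst : P ⟶ X := pullback.fst f g
  let snd : P ⟶ T := pullback.snd f g
  let V' : P.Opens := fst ⁻¹ᵁ V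
  have hV' : IsAffineOpen V' := isAffineOpen_preimage_fst f g hU (top_le_iff.mp hg) hV hVU
  letI := (g.appLE U ⊤ hg).hom.toAlgebra
  letI : Algebra Γ(T, ⊤) Γ(P, V') := (snd.appLE ⊤ V' le_top).hom.toAlgebra
  letI : Algebra Γ(X, V) Γ(P, V') := (fst.appLE V V' le_rfl).hom.toAlgebra
  letI : Algebra Γ(Y, U) Γ(P, V') :=
    ((fst.appLE V V' le_rfl).hom.comp (f.appLE U V hVU).hom).toAlgebra
  obtain ⟨h1, h2, h3⟩ := isPushout_chart f g hU hg hV hVU
  haveI := h1
  haveI := h2
  haveI : Algebra.IsPushout Γ(Y, U) Γ(T, ⊤) Γ(X, V) Γ(P, V') := h3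
  let ε : W ≃ₐ[Γ(Y, U)] Γ(T, ⊤) := AlgEquiv.ofRingEquiv (f := εT.symm) fun r ↦
    εT.symm_apply_eq.mpr (chartMap_appLE hU W (algebraMap Γ(Y, U) W) r).symm
  let e : BCA Γ(Y, U) W Γ(X, V) ≃+* Γ(P, V') :=
    (Algebra.TensorProduct.congr ε AlgEquiv.refl).toRingEquiv.trans
      (Algebra.IsPushout.equiv Γ(Y, U) Γ(T, ⊤) Γ(X, V) Γ(P, V')).toRingEquiv
  have heB : ∀ c, e (algebraMap Γ(X, V) _ c) = algebraMap Γ(X, V) Γ(P, V') c := fun c ↦ by
    show Algebra.IsPushout.equiv Γ(Y, U) Γ(T, ⊤) Γ(X, V) Γ(P, V')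
      (Algebra.TensorProduct.congr ε AlgEquiv.refl ((1 : W) ⊗ₜ c)) = _
    rw [Algebra.TensorProduct.congr_apply, Algebra.TensorProduct.map_tmul, map_one,
      Algebra.IsPushout.equiv_tmul, map_one, one_mul]
    rfl
  have heA : ∀ w, e (algebraMap W _ w) = algebraMap Γ(T, ⊤) Γ(P, V') (εT.symm w) := fun w ↦ by
    show Algebra.IsPushout.equiv Γ(Y, U) Γ(T, ⊤) Γ(X, V) Γ(P, V')
      (Algebra.TensorProduct.congr ε AlgEquiv.refl (w ⊗ₜ (1 : Γ(X, V)))) = _
    rw [Algebra.TensorProduct.congr_apply, Algebra.TensorProduct.map_tmul, map_one,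
      Algebra.IsPushout.equiv_tmul, map_one, mul_one]
    rfl
  let Q' : PrimeSpectrum Γ(P, V') := PrimeSpectrum.comap e.symm.toRingHom Q
  have hmem : ∀ z, e z ∈ Q'.asIdeal ↔ z ∈ Q.asIdeal := fun z ↦ by
    show e.symm (e z) ∈ Q.asIdeal ↔ _
    rw [RingEquiv.symm_apply_apply]
  obtain ⟨⟨y, hy⟩, hQ'⟩ := hV'.isoSpec.hom.surjective Q'
  change hV'.primeIdealOf ⟨y, hy⟩ = Q' at hQ'
  have hred : _root_.IsReduced (P.presheaf.stalk y) := by
    refine h y ?_ ?_
    · have e1 : hV.primeIdealOf ⟨fst y, hy⟩ = hV.primeIdealOf ⟨x, hx⟩ := by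
        rw [← IsAffineOpen.comap_primeIdealOf_appLE V hV V' hV' (f := fst) le_rfl hy, hQ']
        refine PrimeSpectrum.ext (Ideal.ext fun c ↦ ?_)
        rw [← hQp, Ideal.mem_comap, ← hmem, heB]
        rfl
      exact congrArg Subtype.val (hV.isoSpec.hom.homeomorph.injective e1)
    · refine eq_closedPoint_of_primeIdealOf ?_
      rw [← IsAffineOpen.comap_primeIdealOf_appLE ⊤ (isAffineOpen_top T) V' hV' (f := snd) le_top hy, hQ']
      refine Ideal.ext fun w ↦ ?_
      obtain ⟨w, rfl⟩ := εT.symm.surjective w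
      rw [IsLocalRing.mem_maximalIdeal, mem_nonunits_iff, isUnit_map_iff, ← mem_nonunits_iff,
        ← IsLocalRing.mem_maximalIdeal, ← hQm, Ideal.mem_comap, ← hmem, heA]
      rfl
  letI : Algebra Γ(P, V') (P.presheaf.stalk y) := (P.presheaf.germ V' y hy).hom.toAlgebra
  haveI : IsLocalization.AtPrime (P.presheaf.stalk y) (hV'.primeIdealOf ⟨y, hy⟩).asIdeal :=
    hV'.isLocalization_stalk ⟨y, hy⟩
  have h0 : algebraMap Γ(P, V') (P.presheaf.stalk y) (e n) = 0 :=
    ((hn.map e).map (algebraMap Γ(P, V') (P.presheaf.stalk y))).eq_zero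
  obtain ⟨c, hc⟩ := (IsLocalization.map_eq_zero_iff (hV'.primeIdealOf ⟨y, hy⟩).asIdeal.primeCompl _ _).mp h0
  obtain ⟨c', hc'⟩ := e.surjective c
  refine ⟨c', fun hmem' ↦ c.2 ?_, e.injective (by rw [map_mul, hc', hc, map_zero])⟩
  exact (SetLike.ext_iff.mp (congrArg PrimeSpectrum.asIdeal hQ') _).mpr (hc' ▸ (hmem c').mpr hmem')

/-- EGA IV 11.8 / 15.2: reducedness of the local ring. -/
theorem isReduced_stalk_of_flat_geomReduced {X Y : Scheme.{u}} [IsLocallyNoetherian Y]
    (f : X ⟶ Y) [LocallyOfFiniteType f] (x : X) (hflat : (f.stalkMap x).hom.Flat)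
    (hred : FBase.IsGeomReducedAt (f.fiberToSpecResidueField (f x)) (f.asFiber x))
    (hy : _root_.IsReduced (Y.presheaf.stalk (f x))) : _root_.IsReduced (X.presheaf.stalk x) := by
  classical
  haveI := hy
  haveI : IsLocallyNoetherian X := LocallyOfFiniteType.isLocallyNoetherian f
  obtain ⟨U, hU, hxU, -⟩ := exists_isAffineOpen_mem_and_subset (x := f x) (U := ⊤) trivial
  obtain ⟨V, hV, hxV, hVU⟩ := exists_isAffineOpen_mem_and_subset (x := x) (U := f ⁻¹ᵁ U) hxU
  have hVU' : V ≤ f ⁻¹ᵁ U := hVU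
  letI := (f.appLE U V hVU').hom.toAlgebra
  haveI : IsNoetherianRing Γ(X, V) := IsLocallyNoetherian.component_noetherian ⟨V, hV⟩
  haveI : IsNoetherianRing Γ(Y, U) := IsLocallyNoetherian.component_noetherian ⟨U, hU⟩
  let q := hV.primeIdealOf ⟨x, hxV⟩
  let p := q.asIdeal.comap (algebraMap Γ(Y, U) Γ(X, V))
  have hq : p = (hU.primeIdealOf ⟨f x, hxU⟩).asIdeal :=
    congrArg PrimeSpectrum.asIdeal (IsAffineOpen.comap_primeIdealOf_appLE U hU V hV hVU' hxV)
  letI : Algebra Γ(Y, U) (Y.presheaf.stalk (f x)) := (Y.presheaf.germ U (f x) hxU).hom.toAlgebra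
  haveI : IsLocalization.AtPrime (Y.presheaf.stalk (f x)) p := by
    rw! [hq]
    exact hU.isLocalization_stalk ⟨f x, hxU⟩
  letI : Algebra Γ(X, V) (X.presheaf.stalk x) := (X.presheaf.germ V x hxV).hom.toAlgebra
  haveI : IsLocalization.AtPrime (X.presheaf.stalk x) q.asIdeal := hV.isLocalization_stalk ⟨x, hxV⟩
  let εY := IsLocalization.algEquiv p.primeCompl (Localization.AtPrime p) (Y.presheaf.stalk (f x))
  haveI : IsNoetherianRing (Localization.AtPrime p) :=
    IsLocalization.isNoetherianRing p.primeCompl _ inferInstance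
  haveI : _root_.IsReduced (Localization.AtPrime p) := isReduced_of_injective εY εY.injective
  let εX := IsLocalization.algEquiv q.asIdeal.primeCompl (X.presheaf.stalk x) (Localization.AtPrime q.asIdeal)
  refine @isReduced_of_injective _ _ _ _ _ _ _ εX εX.injective ?_
  refine isReduced_localization_of_dvr q ((FlatLib.flat_stalkMap_iff U hU V hV hVU' hxV).mp hflat) ?_ ?_
  · have hr : _root_.IsReduced ((f.fiber (f x)).presheaf.stalk (f.asFiber x)) :=
      isReduced_fiber_baseChange f x hred (IsPullback.of_id_fst (f := f)) x rfl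
    haveI := isReduced_stalk_quotient f x
    have hmap : ((maximalIdeal (Y.presheaf.stalk (f x))).map (f.stalkMap x).hom).map
        (εX.toRingEquiv.toRingHom) = p.map (algebraMap Γ(Y, U) (Localization.AtPrime q.asIdeal)) := by
      rw [← IsLocalization.AtPrime.map_eq_maximalIdeal p (Y.presheaf.stalk (f x)), Ideal.map_map, Ideal.map_map]
      congr 1
      refine RingHom.ext fun r ↦ ?_
      rw [IsScalarTower.algebraMap_apply Γ(Y, U) Γ(X, V) (Localization.AtPrime q.asIdeal)]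
      show εX (f.stalkMap x (Y.presheaf.germ U (f x) hxU r)) = _
      rw [Scheme.Hom.germ_stalkMap_apply]
      refine Eq.trans (congrArg εX ?_) (εX.commutes _)
      exact (TopCat.Presheaf.germ_res_apply X.presheaf _ _ _ _).symm
    exact isReduced_of_injective (Ideal.quotientEquiv _ _ εX.toRingEquiv hmap.symm).symm
      (Ideal.quotientEquiv _ _ εX.toRingEquiv hmap.symm).symm.injective
  · intro A' _ _ _ _ hm Q hQp hQm n hn
    refine exists_mul_eq_zero_chart f hU hV hVU' hxV A' (fun x' hx' hb ↦ ?_) Q hQp hQm n hn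
    haveI : LocallyOfFinitePresentation f := inferInstance
    haveI := isReduced_fiber_baseChange f x hred (IsPullback.of_hasPullback f _) x' hx'
    exact isReduced_stalk_dvr _ x'
      (FlatLib.flatAt_baseChange (IsPullback.of_hasPullback f _) (hx'.symm ▸ hflat))

end DvrFlatLib
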