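import Groth.Agent.DvrFlatLib.Valuative
import Groth.Agent.DvrFlatLib.Global

/-!
# The valuative criterion of flatness with generic points at minimal primes
-/

set_option autoImplicit false
universe u

open TensorProduct IsLocalRing FlatLib

attribute [local instance] Algebra.TensorProduct.rightAlgebra

namespace DvrFlatLib

/-- Flatness over the discrete valuation algebras whose kernel is a minimal prime. -/
def DvrMinHyp (A : Type u) {B : Type u} [CommRing A] [IsLocalRing A] [CommRing B] [Algebra A B]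
    (M : Type u) [AddCommGroup M] [Module B M] [Module A M] [IsScalarTower A B M] (p : Ideal B) :
    Prop :=
  ∀ (A' : Type u) [CommRing A'] [IsDomain A'] [IsDiscreteValuationRing A'] [Algebra A A']
    [IsLocalHom (algebraMap A A')], RingHom.ker (algebraMap A A') ∈ minimalPrimes A → FlatFibre A M A' p

theorem comap_minimal_nilradical {A : Type u} [CommRing A] {q : Ideal (A ⧸ nilradical A)}
    (hq : q ∈ minimalPrimes (A ⧸ nilradical A)) :
    q.comap (algebraMap A (A ⧸ nilradical A)) ∈ minimalPrimes A := by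
  have h := Ideal.minimalPrimes_eq_comap (I := nilradical A)
  rw [nilradical, Ideal.radical_minimalPrimes] at h
  exact h.ge ⟨q, hq, rfl⟩

section Trans

variable {A B M A₁ B₁ M₁ : Type u} [CommRing A] [CommRing B] [Algebra A B] [AddCommGroup M]
  [Module B M] [Module A M] [IsScalarTower A B M]
  [CommRing A₁] [CommRing B₁] [Algebra A A₁] [Algebra A B₁] [Algebra B B₁] [Algebra A₁ B₁]
  [IsScalarTower A A₁ B₁] [IsScalarTower A B B₁] [Algebra.IsPushout A A₁ B B₁]
  [AddCommGroup M₁] [Module B₁ M₁] [Module B M₁] [IsScalarTower B B₁ M₁] [Module A₁ M₁]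
  [IsScalarTower A₁ B₁ M₁]

theorem DvrMinHyp.trans [IsLocalRing A] [IsLocalRing A₁] [IsLocalHom (algebraMap A A₁)] {p : Ideal B}
    (h : DvrMinHyp A M p) (ι : M →ₗ[B] M₁)
    (hι : IsBaseChange B₁ ι) (p₁ : Ideal B₁) (hp₁ : p₁.comap (algebraMap B B₁) = p)
    (hmin : ∀ q ∈ minimalPrimes A₁, q.comap (algebraMap A A₁) ∈ minimalPrimes A) :
    DvrMinHyp A₁ M₁ p₁ := by
  intro A' _ _ _ _ _ hk
  letI : Algebra A A' := ((algebraMap A₁ A').comp (algebraMap A A₁)).toAlgebra
  have : IsScalarTower A A₁ A' := IsScalarTower.of_algebraMap_eq fun _ ↦ rfl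
  have : IsLocalHom (algebraMap A A') :=
    RingHom.isLocalHom_comp (algebraMap A₁ A') (algebraMap A A₁)
  exact FlatFibre.trans (h A' (hmin _ hk)) ι hι p₁ hp₁

end Trans

section Complete

variable {A B M : Type u} [CommRing A] [IsLocalRing A] [IsNoetherianRing A] [IsReduced A]
  [CommRing B] [Algebra A B] [IsNoetherianRing B] [AddCommGroup M] [Module B M] [Module A M]
  [IsScalarTower A B M] [Module.Finite B M]

/-- The valuative criterion over a complete reduced base. -/
theorem mem_flatLocus_of_dvrMinHyp_complete [IsAdicComplete (maximalIdeal A) A] {p : PrimeSpectrum B}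
    (hp : p.asIdeal.comap (algebraMap A B) = maximalIdeal A) (h : DvrMinHyp A M p.asIdeal) :
    p ∈ flatLocus A B M := by
  classical
  by_cases hF : IsField A
  · letI := hF.toField
    show Module.Flat A _
    infer_instance
  let ι := ↥(minimalPrimes A)
  have hne : ∀ P : ι, ∃ a ∈ maximalIdeal A, a ∉ P.1 := fun P ↦ by
    by_contra hc
    push Not at hc
    have := P.2.1.1
    have hPm : P.1 = maximalIdeal A := le_antisymm (le_maximalIdeal this.ne_top) hc
    refine hF (IsLocalRing.isField_iff_maximalIdeal_eq.mpr (le_antisymm (fun a ha ↦ ?_) bot_le))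
    have hn : a ∈ nilradical A := by
      rw [nilradical, ← Ideal.sInf_minimalPrimes, Submodule.mem_sInf]
      intro Q hQ
      have hle : Q ≤ P.1 := (le_maximalIdeal hQ.1.1.ne_top).trans hPm.ge
      exact P.2.2 hQ.1 hle (hc a ha)
    rwa [nilradical_eq_zero] at hn
  have key : ∀ P : ι, ∃ (A' : Type u) (_ : CommRing A') (_ : IsDomain A')
      (_ : IsDiscreteValuationRing A') (_ : Algebra A A'),
      IsLocalHom (algebraMap A A') ∧ RingHom.ker (algebraMap A A') = P.1 := by
    intro P
    have := P.2.1.1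
    let L := FractionRing (A ⧸ P.1)
    have hkerL : RingHom.ker (algebraMap A L) = P.1 := by
      ext a
      rw [RingHom.mem_ker, IsScalarTower.algebraMap_apply A (A ⧸ P.1) L,
        map_eq_zero_iff _ (IsFractionRing.injective (A ⧸ P.1) L), Ideal.Quotient.algebraMap_eq,
        Ideal.Quotient.eq_zero_iff_mem]
    have hs : Subfield.closure (Set.range (algebraMap A L) ∪ ((∅ : Finset L) : Set L)) = ⊤ := by
      refine top_le_iff.mp fun x _ ↦ ?_
      obtain ⟨a, b, _, rfl⟩ := IsFractionRing.div_surjective (A ⧸ P.1) x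
      obtain ⟨a, rfl⟩ := Ideal.Quotient.mk_surjective a
      obtain ⟨b, rfl⟩ := Ideal.Quotient.mk_surjective b
      exact div_mem (Subfield.subset_closure (Or.inl ⟨a, rfl⟩)) (Subfield.subset_closure (Or.inl ⟨b, rfl⟩))
    obtain ⟨R, hR, hmem, hlt⟩ := DvrDomLib.exists_dvr_dominating (L := L) (maximalIdeal A)
      (hkerL.trans_le (le_maximalIdeal this.ne_top))
      (by
        obtain ⟨a, ha, haP⟩ := hne P
        exact ⟨a, ha, fun h0 ↦ haP (hkerL ▸ RingHom.mem_ker.mpr h0)⟩) ∅ hs
    refine ⟨R, inferInstance, inferInstance, hR,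
      ((algebraMap A L).codRestrict R.toSubring hmem).toAlgebra, ⟨fun a ha ↦ ?_⟩, ?_⟩
    · by_contra hu
      have h1 : R.valuation (algebraMap A L a) < 1 := (hlt a).mpr hu
      have h2 := (R.valuation_eq_one_iff ⟨algebraMap A L a, hmem a⟩).mp ha
      exact h1.ne h2
    · refine Eq.trans ?_ hkerL
      ext a
      exact ⟨fun h0 ↦ congrArg Subtype.val h0, fun h0 ↦ Subtype.ext h0⟩
  choose A' iC iD iV iA hloc hker using key
  have hι : Fintype ι := (minimalPrimes.finite_of_isNoetherianRing A).fintype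
  have : ∀ P, IsLocalHom (algebraMap A (A' P)) := hloc
  refine mem_flatLocus_of_family A' (fun N ↦ ?_) hp (fun P ↦ h (A' P) (by rw [hker P]; exact P.2))
  let J : ℕ → Ideal A := fun k ↦ ⨅ P : ι, Ideal.comap (algebraMap A (A' P)) (maximalIdeal (A' P) ^ k)
  have hanti : Antitone J := fun k l hkl ↦ iInf_mono fun P ↦ Ideal.comap_mono (Ideal.pow_le_pow_right hkl)
  have hinf : ⨅ k, J k = ⊥ := by
    refine (Submodule.eq_bot_iff _).mpr fun a ha ↦ ?_
    have hn : a ∈ nilradical A := by
      rw [nilradical, ← Ideal.sInf_minimalPrimes, Submodule.mem_sInf]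
      intro Q hQ
      refine (congrArg (a ∈ ·) (hker ⟨Q, hQ⟩)).mp (RingHom.mem_ker.mpr ?_)
      have hK : algebraMap A (A' ⟨Q, hQ⟩) a ∈ ⨅ k : ℕ, maximalIdeal (A' ⟨Q, hQ⟩) ^ k := by
        rw [Submodule.mem_iInf]
        intro k
        exact Ideal.mem_iInf.mp (Ideal.mem_iInf.mp ha k) ⟨Q, hQ⟩
      rwa [Ideal.iInf_pow_eq_bot_of_isLocalRing _ (maximalIdeal.isMaximal _).ne_top] at hK
    rwa [nilradical_eq_zero] at hn
  obtain ⟨k, hk⟩ := Groth.Agent.S17754.result A J hanti hinf N
  refine ⟨Finset.univ.image fun P : ι ↦ (P, k), le_trans (le_iInf fun P ↦ ?_) hk⟩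
  exact iInf₂_le (f := fun (q : ι × ℕ) (_ : q ∈ Finset.univ.image fun P : ι ↦ (P, k)) ↦
    Ideal.comap (algebraMap A (A' q.1)) (maximalIdeal (A' q.1) ^ q.2)) (P, k)
    (Finset.mem_image_of_mem _ (Finset.mem_univ P))

end Complete

section Main

/-- The valuative criterion, with the completion abstracted. -/
theorem mem_flatLocus_of_dvrMinHyp_aux {A A₁ B M : Type u} [CommRing A] [IsLocalRing A] [IsNoetherianRing A]
    [IsReduced A] [CommRing A₁] [IsLocalRing A₁] [IsNoetherianRing A₁]
    [IsAdicComplete (maximalIdeal A₁) A₁] [Algebra A A₁] [Module.Flat A A₁]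
    [IsLocalHom (algebraMap A A₁)]
    [CommRing B] [Algebra A B] [Algebra.FiniteType A B] [AddCommGroup M] [Module B M] [Module A M]
    [IsScalarTower A B M] [Module.Finite B M] {p : PrimeSpectrum B}
    (α : A₁ →ₐ[A] B ⧸ p.asIdeal) (hα : RingHom.ker α = maximalIdeal A₁)
    (h : DvrMinHyp A M p.asIdeal) : p ∈ flatLocus A B M := by
  classical
  let B₁ := BCA A A₁ B
  let M₁ := BCM A B M A₁
  have : IsNoetherianRing B₁ := Algebra.FiniteType.isNoetherianRing A₁ B₁
  have hflatB : Module.Flat B B₁ := Module.Flat.isBaseChange A B A₁ B₁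
    (Algebra.IsPushout.out (R := A) (S := B) (R' := A₁) (S' := B₁))
  let π : B₁ →ₐ[A] B ⧸ p.asIdeal :=
    Algebra.TensorProduct.lift α (Ideal.Quotient.mkₐ A p.asIdeal) fun _ _ ↦ Commute.all _ _
  let p₁ : PrimeSpectrum B₁ := ⟨RingHom.ker π, RingHom.ker_isPrime π⟩
  have : p₁.asIdeal.IsPrime := p₁.isPrime
  have hp₁ : PrimeSpectrum.comap (algebraMap B B₁) p₁ = p := by
    ext b
    show Algebra.TensorProduct.lift α (Ideal.Quotient.mkₐ A p.asIdeal) _ ((1 : A₁) ⊗ₜ b) = 0 ↔ _
    rw [Algebra.TensorProduct.lift_tmul, map_one, one_mul]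
    exact Ideal.Quotient.eq_zero_iff_mem
  have hp₁' : p₁.asIdeal.comap (algebraMap A₁ B₁) = maximalIdeal A₁ := by
    rw [← hα]
    ext a
    show Algebra.TensorProduct.lift α (Ideal.Quotient.mkₐ A p.asIdeal) _ (a ⊗ₜ (1 : B)) = 0 ↔ α a = 0
    rw [Algebra.TensorProduct.lift_tmul, map_one, mul_one]
  let ι := bcι A B M A₁
  have hι := isBaseChange_bcι A B M A₁
  have hιA := isBaseChange_restrict (A := A) (A' := A₁) ι hι
  have h₁ : DvrMinHyp A₁ M₁ p₁.asIdeal := h.trans ι hι _ (congrArg PrimeSpectrum.asIdeal hp₁)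
    fun q hq ↦ comap_mem_minimalPrimes (Module.associatedPrimes.minimalPrimes_annihilator_subset_associatedPrimes A₁ A₁ (by rwa [Module.annihilator_eq_bot.mpr inferInstance]))
  suffices hmain : p₁ ∈ flatLocus A₁ B₁ M₁ by
    refine mem_flatLocus_of_flat_algebra (A := A) (M := M) p p₁ hp₁ ?_
    have : Module.Flat A₁ (LocalizedModule p₁.asIdeal.primeCompl M₁) := hmain
    exact Module.Flat.trans A A₁ _
  let L := LocalizedModule p₁.asIdeal.primeCompl M₁
  show Module.Flat A₁ L
  refine (Groth.Agent.S2574.result (nilradical A₁) ?_ L).mpr ⟨?_, fun q ↦ ?_⟩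
  · exact (IsNoetherianRing.isNilpotent_nilradical A₁)
  · let A₂ := A₁ ⧸ nilradical A₁
    have hN : nilradical A₁ ≤ maximalIdeal A₁ := nilradical_le_prime _
    have : Nontrivial A₂ := Ideal.Quotient.nontrivial_iff.mpr fun e ↦
      (maximalIdeal.isMaximal A₁).ne_top (top_le_iff.mp (e.ge.trans hN))
    have : IsLocalRing A₂ := IsLocalRing.of_surjective' _ Ideal.Quotient.mk_surjective
    have : IsLocalHom (algebraMap A₁ A₂) :=
      Function.Surjective.isLocalHom _ Ideal.Quotient.mk_surjective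
    have : IsReduced A₂ := (Ideal.isRadical_iff_quotient_reduced _).mp (Ideal.radical_isRadical _)
    have hmax : maximalIdeal A₂ = (maximalIdeal A₁).map (Ideal.Quotient.mk _) :=
      (IsLocalRing.eq_maximalIdeal (Ideal.IsMaximal.map_of_surjective_of_ker_le
        Ideal.Quotient.mk_surjective (by rwa [Ideal.mk_ker]))).symm
    have : IsAdicComplete (maximalIdeal A₂) A₂ := hmax ▸ AdicRingLib.RigClosed.isAdicComplete_quotient (maximalIdeal A₁) (nilradical A₁)
    let B₂ := BCA A₁ A₂ B₁
    let M₂ := BCM A₁ B₁ M₁ A₂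
    have : IsNoetherianRing B₂ := isNoetherianRing_quotient (nilradical A₁)
    obtain ⟨p₂, hp₂⟩ := exists_point_quotient (J := nilradical A₁) (p := p₁) (hp₁'.symm ▸ hN)
    have hp₂' : p₂.asIdeal.comap (algebraMap A₂ B₂) = maximalIdeal A₂ := by
      refine IsLocalRing.eq_maximalIdeal ?_
      have e : (p₂.asIdeal.comap (algebraMap A₂ B₂)).comap (algebraMap A₁ A₂) = maximalIdeal A₁ := by
        rw [← hp₁', ← hp₂, Ideal.comap_comap, Ideal.comap_comap, ← IsScalarTower.algebraMap_eq,
          ← IsScalarTower.algebraMap_eq]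
      have : ((p₂.asIdeal.comap (algebraMap A₂ B₂)).comap (algebraMap A₁ A₂)).IsMaximal :=
        e ▸ maximalIdeal.isMaximal _
      exact Ideal.isMaximal_of_isIntegral_of_isMaximal_comap _ this
    refine flat_tensor_of_mem_flatLocus (algebraMap B₁ B₂) (surjective_algebraMap_quotient _)
      ((bcι A₁ B₁ M₁ A₂).restrictScalars A₁) (isBaseChange_restrict _ (isBaseChange_bcι A₁ B₁ M₁ A₂))
      (fun b m ↦ by rw [LinearMap.restrictScalars_apply, map_smul, algebraMap_smul]; rfl)
      p₁ p₂ (PrimeSpectrum.ext hp₂) ?_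
    exact mem_flatLocus_of_dvrMinHyp_complete hp₂'
      (h₁.trans (bcι A₁ B₁ M₁ A₂) (isBaseChange_bcι A₁ B₁ M₁ A₂) _ hp₂ fun q hq ↦ comap_minimal_nilradical hq)
  · have := IsAssociatedPrime.isPrime q.2
    exact flat_localized_assoc (A := A) (ι.restrictScalars A) hιA p₁.asIdeal.primeCompl
      (LocalizedModule.mkLinearMap _ M₁) q.2

/-- The valuative criterion of flatness. -/
theorem mem_flatLocus_of_dvrMinHyp {A B M : Type u} [CommRing A] [IsLocalRing A] [IsNoetherianRing A]
    [IsReduced A] [CommRing B] [Algebra A B] [Algebra.FiniteType A B] [AddCommGroup M] [Module B M]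
    [Module A M] [IsScalarTower A B M] [Module.Finite B M] {p : PrimeSpectrum B}
    (hp : p.asIdeal.comap (algebraMap A B) = maximalIdeal A) (h : DvrMinHyp A M p.asIdeal) :
    p ∈ flatLocus A B M := by
  let A₁ := AdicCompletion (maximalIdeal A) A
  have : IsNoetherianRing A₁ := Groth.Agent.S0543.result A (maximalIdeal A)
  let κ : A ⧸ maximalIdeal A →ₐ[A] B ⧸ p.asIdeal :=
    Ideal.Quotient.liftₐ _ (Algebra.ofId A _) fun a ha ↦ by
      show algebraMap A (B ⧸ p.asIdeal) a = 0
      exact Ideal.Quotient.eq_zero_iff_mem.mpr (hp.ge ha)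
  let α : A₁ →ₐ[A] B ⧸ p.asIdeal := κ.comp (AdicCompletion.evalOneₐ (maximalIdeal A))
  refine mem_flatLocus_of_dvrMinHyp_aux (A₁ := A₁) α ?_ h
  refine (IsLocalRing.eq_maximalIdeal ?_)
  have : RingHom.ker α = RingHom.ker (AdicCompletion.evalOneₐ (maximalIdeal A)) := by
    have hκ : Function.Injective κ := by
      letI := Ideal.Quotient.field (maximalIdeal A)
      exact (κ.toRingHom).injective
    ext x
    exact ⟨fun hx ↦ hκ ((RingHom.mem_ker.mp hx).trans (map_zero κ).symm), fun hx ↦ by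
      show κ (AdicCompletion.evalOneₐ _ x) = 0
      rw [RingHom.mem_ker.mp hx, map_zero]⟩
  rw [this]
  letI := Ideal.Quotient.field (maximalIdeal A)
  exact RingHom.ker_isMaximal_of_surjective _ (AdicCompletion.evalOneₐ_surjective _)

end Main

end DvrFlatLib
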