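import Mathlib
import Groth.Agent.DvrFlatLib.Minimal
import Groth.Agent.DvrFlatLib.Chart
import Groth.Agent.S2562

/-!
# The valuative criterion of flatness for schemes, generic points at maximal points
-/

set_option autoImplicit false
universe u

open TensorProduct IsLocalRing FlatLib
open CategoryTheory CategoryTheory.Limits AlgebraicGeometry

attribute [local instance] Algebra.TensorProduct.rightAlgebra

namespace DvrFlatLib

/-- The valuative criterion at a point, generic points at minimal primes. -/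
theorem mem_flatLocus_of_dvrMin {R Rq B M : Type u} [CommRing R] [CommRing B] [Algebra R B] [CommRing Rq]
    [Algebra R Rq] [IsLocalRing Rq] [AddCommGroup M] [Module B M] [Module R M] [IsScalarTower R B M]
    [Algebra.FiniteType R B] [Module.Finite B M] (p : PrimeSpectrum B)
    [IsLocalization.AtPrime Rq (p.asIdeal.comap (algebraMap R B))] [IsNoetherianRing Rq] [_root_.IsReduced Rq]
    (h : ∀ (A' : Type u) [CommRing A'] [IsDomain A'] [IsDiscreteValuationRing A'] [Algebra R A'] [Algebra Rq A']
      [IsScalarTower R Rq A'] [IsLocalHom (algebraMap Rq A')],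
      RingHom.ker (algebraMap Rq A') ∈ minimalPrimes Rq → FlatFibre R M A' p.asIdeal) :
    p ∈ flatLocus R B M := by
  obtain ⟨p₁, hp₁, hp₁m⟩ := exists_point_localization (R := R) (Rq := Rq) p
  refine mem_flatLocus_of_localized p (p.asIdeal.comap (algebraMap R B)).primeCompl p₁ hp₁ ?_
  have : Module.Finite (BCA R Rq B) (BCM R B M Rq) := inferInstance
  refine mem_flatLocus_of_dvrMinHyp hp₁m ?_
  intro A' _ _ _ _ _ hk
  letI : Algebra R A' := ((algebraMap Rq A').comp (algebraMap R Rq)).toAlgebra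
  have : IsScalarTower R Rq A' := IsScalarTower.of_algebraMap_eq fun _ ↦ rfl
  exact FlatFibre.trans (h A' hk) (bcι R B M Rq) (isBaseChange_bcι R B M Rq) _
    (congrArg PrimeSpectrum.asIdeal hp₁)

/-- Flatness follows from flatness over the discrete valuation rings with generic point at a maximal
point of the base. -/
theorem flat_stalkMap_of_dvr_maximal {X Y : Scheme.{u}} (f : X ⟶ Y) [LocallyOfFinitePresentation f] (x : X)
    [IsNoetherianRing (Y.presheaf.stalk (f x))] [_root_.IsReduced (Y.presheaf.stalk (f x))]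
    (h : ∀ (A : Type u) [CommRing A] [IsDomain A] [IsDiscreteValuationRing A] (g : Spec (CommRingCat.of A) ⟶ Y),
      g (closedPoint A) = f x →
      (∀ η : Spec (CommRingCat.of A), (η : PrimeSpectrum A).asIdeal = ⊥ → ∀ z : Y, z ⤳ g η → z = g η) →
      ∀ w : ↥(pullback f g), pullback.fst f g w = x → pullback.snd f g w = closedPoint A →
        ((pullback.snd f g).stalkMap w).hom.Flat) :
    (f.stalkMap x).hom.Flat := by
  obtain ⟨U, hU, hxU, -⟩ := exists_isAffineOpen_mem_and_subset (x := f x) (U := ⊤) trivial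
  obtain ⟨V, hV, hxV, hVU⟩ := exists_isAffineOpen_mem_and_subset (x := x) (U := f ⁻¹ᵁ U) hxU
  have hVU' : V ≤ f ⁻¹ᵁ U := hVU
  letI := (f.appLE U V hVU').hom.toAlgebra
  haveI : Algebra.FinitePresentation Γ(Y, U) Γ(X, V) :=
    LocallyOfFinitePresentation.finitePresentation_appLE f hU hV hVU'
  refine (FlatLib.flat_stalkMap_iff U hU V hV hVU' hxV).mpr ?_
  letI : Algebra Γ(Y, U) (Y.presheaf.stalk (f x)) := (Y.presheaf.germ U (f x) hxU).hom.toAlgebra
  have hq : (hV.primeIdealOf ⟨x, hxV⟩).asIdeal.comap (algebraMap Γ(Y, U) Γ(X, V)) =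
      (hU.primeIdealOf ⟨f x, hxU⟩).asIdeal :=
    congrArg PrimeSpectrum.asIdeal (IsAffineOpen.comap_primeIdealOf_appLE U hU V hV hVU' hxV)
  haveI : IsLocalization.AtPrime (Y.presheaf.stalk (f x))
      ((hV.primeIdealOf ⟨x, hxV⟩).asIdeal.comap (algebraMap Γ(Y, U) Γ(X, V))) := by
    rw! [hq]
    exact hU.isLocalization_stalk ⟨f x, hxU⟩
  refine mem_flatLocus_of_dvrMin (Rq := Y.presheaf.stalk (f x)) _ fun A' _ _ _ _ _ _ _ hk => ?_
  refine flatFibre_structure f hU hV hVU' hxV A' ?_
  let φ : (Y.presheaf.stalk (f x) : Type u) →+* A' := algebraMap _ A'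
  have e : Spec.map (CommRingCat.ofHom φ) ≫ Y.fromSpecStalk (f x) =
      chartMap hU A' (algebraMap Γ(Y, U) A') := by
    rw [chartMap_eq hU A' hxU φ]
    exact congrArg (chartMap hU A') (IsScalarTower.algebraMap_eq Γ(Y, U) (Y.presheaf.stalk (f x)) A').symm
  rw [← e]
  refine h A' _ ?_ fun η hη z hz => ?_
  · rw [Scheme.Hom.comp_apply, show Spec.map (CommRingCat.ofHom φ) (closedPoint A') =
      closedPoint (Y.presheaf.stalk (f x)) from IsLocalRing.comap_closedPoint φ]
    exact Scheme.fromSpecStalk_closedPoint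
  · rw [Scheme.Hom.comp_apply] at hz ⊢
    let q : Spec (CommRingCat.of (Y.presheaf.stalk (f x))) := Spec.map (CommRingCat.ofHom φ) η
    change z ⤳ Y.fromSpecStalk (f x) q at hz
    obtain ⟨r, rfl⟩ := (Scheme.range_fromSpecStalk (x := f x)).ge
      (hz.trans ((Scheme.range_fromSpecStalk (x := f x)).le ⟨q, rfl⟩))
    rw [(Y.fromSpecStalk (f x)).isEmbedding.isInducing.specializes_iff] at hz
    have hle : (r : PrimeSpectrum _).asIdeal ≤ RingHom.ker φ := by
      have h1 : (r : PrimeSpectrum _).asIdeal ≤ (q : PrimeSpectrum _).asIdeal :=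
        (PrimeSpectrum.le_iff_specializes _ _).mpr hz
      have h2 : (q : PrimeSpectrum _).asIdeal = RingHom.ker φ := by
        show (η : PrimeSpectrum A').asIdeal.comap φ = _
        rw [hη, RingHom.ker_eq_comap_bot]
      exact h2 ▸ h1
    have heq : (r : PrimeSpectrum _).asIdeal = RingHom.ker φ := le_antisymm hle (hk.2 ⟨r.isPrime, bot_le⟩ hle)
    congr 1
    refine PrimeSpectrum.ext (heq.trans ?_)
    show RingHom.ker φ = (η : PrimeSpectrum A').asIdeal.comap φ
    rw [hη, RingHom.ker_eq_comap_bot]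

end DvrFlatLib
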